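import Cfsg.Agent.KnownSimple.PSLMinIndex.SLIndex
import Mathlib.Tactic.FinCases

/-!
The remaining two cases and the bound on the index of a proper subgroup of `SL_n(F)` (helper53).
-/

set_option autoImplicit false

namespace Cfsg.Agent.KnownSimple

open Module Matrix

universe u
variable {F : Type u} [Field F] [Finite F] {n : ℕ}

local notation "G" => Matrix.SpecialLinearGroup (Fin n) F
local notation "V" => Fin n → F

theorem mem_centres {H : Subgroup G} {φ : Dual F V} {w : LinearMap.ker φ} :
    w ∈ centres H φ ↔ tv φ (w : V) ∈ H := Iff.rfl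

/-- Some, but not all, hyperplanes are axes of full transvection groups: large index. -/
theorem full_case (hn : 3 ≤ n) {H : Subgroup G} (hH : H ≠ ⊤)
    (hA : ∀ φ : Dual F V, φ ≠ 0 → centres H φ = ⊥ ∨ centres H φ = ⊤)
    {φ₀ : Dual F V} (hφ₀ : φ₀ ≠ 0) (hfull : centres H φ₀ = ⊤) :
    Nat.card F ^ n - 1 ≤ (Nat.card F - 1) * H.index := by
  classical
  have hfix : ∀ h ∈ H, ∀ φ : Dual F V, (∀ x, φ x = 0 → tv φ x ∈ H) →
      ∀ x, dualAct h φ x = 0 → tv (dualAct h φ) x ∈ H := by
    intro h hh φ hφ x hx
    rw [dualAct_apply] at hx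
    have := tv_conj h hx
    rw [LinearEquiv.apply_symm_apply] at this
    rw [← this]
    exact mul_mem (mul_mem hh (hφ _ hx)) (inv_mem hh)
  have hsmul : ∀ (a : F) (φ : Dual F V), (∀ x, φ x = 0 → tv φ x ∈ H) →
      ∀ x, (a • φ) x = 0 → tv (a • φ) x ∈ H := by
    intro a φ hφ x hx
    rcases eq_or_ne a 0 with rfl | ha
    · rw [zero_smul]
      have : tv (0 : Dual F V) x = (1 : G) := g_ext fun y => by
        simp [gL_tv (show (0 : Dual F V) x = 0 by simp)]
      rw [this]; exact one_mem _
    · have hx' : φ x = 0 := by simpa [ha] using hx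
      rw [tv_smul hx']
      exact hφ _ (by simp [hx'])
  have hzero : ∀ x, (0 : Dual F V) x = 0 → tv (0 : Dual F V) x ∈ H := by
    intro x _
    have : tv (0 : Dual F V) x = (1 : G) := g_ext fun y => by
      simp [gL_tv (show (0 : Dual F V) x = 0 by simp)]
    rw [this]; exact one_mem _
  let D : Submodule F (Dual F V) :=
    { carrier := {φ | ∀ x, φ x = 0 → tv φ x ∈ H}
      zero_mem' := hzero
      add_mem' := by
        intro φ ψ hφ hψ
        rcases eq_or_ne ψ 0 with rfl | hψ0
        · simpa using hφ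
        by_cases hle : LinearMap.ker ψ ≤ LinearMap.ker φ
        · obtain ⟨a, rfl⟩ := mem_span_of_ker_le hψ0 hle
          have : a • ψ + ψ = (a + 1) • ψ := by rw [add_smul, one_smul]
          rw [this]
          exact hsmul _ _ hψ
        · obtain ⟨v, hv, hv'⟩ := SetLike.not_le_iff_exists.1 hle
          simp only [LinearMap.mem_ker] at hv hv'
          have hu : ψ ((-(φ v)⁻¹) • v) = 0 := by simp [hv]
          have hadd : φ + ψ = dualAct (tv ψ ((-(φ v)⁻¹) • v)) φ := by
            refine LinearMap.ext fun x => ?_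
            rw [dualAct_tv hu, map_smul, LinearMap.add_apply, smul_eq_mul]
            field_simp
            ring
          rw [hadd]
          exact hfix _ (hψ _ hu) _ hφ
      smul_mem' := fun a φ hφ => hsmul a φ hφ }
  have hφ₀D : φ₀ ∈ D := fun x hx => by
    have : (⟨x, hx⟩ : LinearMap.ker φ₀) ∈ centres H φ₀ := by rw [hfull]; trivial
    exact this
  have hDtop : D ≠ ⊤ := by
    intro hD
    apply hH
    refine LinearGroup.eq_top_of_transvection_mem fun i j hij c => ?_
    have hφ : (c • LinearMap.proj j : Dual F V) ∈ D := by rw [hD]; trivial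
    have h0 : (c • LinearMap.proj j : Dual F V) (Pi.single i 1) = 0 := by
      simp [hij.symm]
    have := hφ _ h0
    have heq : tv (c • LinearMap.proj j : Dual F V) (Pi.single i 1) =
        Matrix.SpecialLinearGroup.transvection hij c := by
      refine g_ext fun x => ?_
      rw [gL_tv h0]
      show _ = Matrix.toLin' (Matrix.SpecialLinearGroup.transvection hij c :
        Matrix (Fin n) (Fin n) F) x
      rw [Matrix.toLin'_apply, Matrix.SpecialLinearGroup.transvection_coe, Matrix.add_mulVec,
        Matrix.one_mulVec, Matrix.single_mulVec]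
      funext k
      simp [Function.update_apply, Pi.single_apply, mul_comm]
    rwa [← heq]
  have hDstab : ∀ h ∈ H, dualAct h '' (D : Set (Dual F V)) = D := by
    intro h hh
    ext φ
    constructor
    · rintro ⟨ψ, hψ, rfl⟩; exact hfix h hh ψ hψ
    · intro hφ
      refine ⟨dualAct h⁻¹ φ, hfix _ (inv_mem hh) φ hφ, ?_⟩
      rw [← dualAct_mul, mul_inv_cancel, map_one]; rfl
  set R := (dualAct (F := F) (n := n)).range with hR
  have hR' : HasUnip R := hasUnip_dualAct
  have horb : Nat.card (imgs R (D : Set (Dual F V))) ≤ H.index := by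
    let f : G ⧸ H → imgs R (D : Set (Dual F V)) :=
      Quotient.lift (fun g => ⟨dualAct g '' D, ⟨⟨dualAct g, g, rfl⟩, rfl⟩⟩) (by
        intro a b hab
        refine Subtype.ext ?_
        have hb : b = a * (a⁻¹ * b) := by group
        rw [hb]
        show _ = (fun x => dualAct (a * (a⁻¹ * b)) x) '' (D : Set (Dual F V))
        simp only [dualAct_mul]
        conv_lhs => rw [← hDstab _ (QuotientGroup.leftRel_apply.1 hab), Set.image_image]
        simp only [dualAct_mul])
    refine Nat.card_le_card_of_surjective f ?_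
    rintro ⟨O, ⟨⟨r, g, rfl⟩, rfl⟩⟩
    exact ⟨(g : G ⧸ H), rfl⟩
  have : Finite (Dual F V) := finite_dual
  have hdim : finrank F (Dual F V) = n := by rw [Subspace.dual_finrank_eq, finrank_fin_fun]
  have hcard : Nat.card (Dual F V) = Nat.card F ^ n := by
    rw [Module.natCard_eq_pow_finrank (K := F), hdim]
  have hs1 : 1 ≤ finrank F D := by
    rw [Submodule.one_le_finrank_iff]
    intro h
    rw [h] at hφ₀D
    exact hφ₀ hφ₀D
  obtain ⟨X, hX⟩ := Submodule.exists_isCompl D
  have hsum := Submodule.finrank_add_eq_of_isCompl hX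
  rw [hdim] at hsum
  have hX1 : 1 ≤ finrank F X := by
    rw [Submodule.one_le_finrank_iff]
    rintro rfl
    exact hDtop (eq_top_of_isCompl_bot hX)
  have hq : 2 ≤ Nat.card F := Finite.one_lt_card
  have hDcard : Nat.card D = Nat.card F ^ finrank F D := natCard_eq_q_pow (F := F) D
  by_cases hs : finrank F D = 1
  · have h := (hR'.count (by omega) (S := (D : Set (Dual F V)) \ {0}) (by simp)
      ⟨φ₀, hφ₀D, hφ₀⟩).1
    rw [hcard, Nat.card_coe_set_eq ((D : Set (Dual F V)) \ {0}),
      Set.ncard_sdiff_singleton_of_mem D.zero_mem] at h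
    have e : (D : Set (Dual F V)).ncard = Nat.card F := by
      rw [← Nat.card_coe_set_eq]; exact hDcard.trans (by rw [hs, pow_one])
    rw [e] at h
    have hle : Nat.card (imgs R ((D : Set (Dual F V)) \ {0})) ≤
        Nat.card (imgs R (D : Set (Dual F V))) := by
      refine Nat.card_le_card_of_surjective (fun O : imgs R (D : Set (Dual F V)) =>
        (⟨(O : Set (Dual F V)) \ {0}, by
          obtain ⟨g, hg⟩ := O.2
          refine ⟨g, ?_⟩
          rw [← hg]
          dsimp only
          rw [Set.image_sdiff g.1.injective]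
          simp⟩ : imgs R ((D : Set (Dual F V)) \ {0}))) ?_
      rintro ⟨O, ⟨g, rfl⟩⟩
      refine ⟨⟨_, ⟨g, rfl⟩⟩, Subtype.ext ?_⟩
      dsimp only
      rw [Set.image_sdiff g.1.injective]
      simp
    calc _ ≤ _ := h
      _ ≤ H.index * (Nat.card F - 1) := Nat.mul_le_mul_right _ (hle.trans horb)
      _ = _ := Nat.mul_comm _ _
  by_cases hx : finrank F X = 1
  · have hb := (hR'.orbit_bound (by omega) D.toAddSubgroup ?_ ?_).1
    · have hidx : D.toAddSubgroup.index = Nat.card F := by
        have h := D.toAddSubgroup.card_mul_index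
        have e : Nat.card F ^ n = Nat.card F ^ finrank F D * Nat.card F := by
          rw [← pow_succ]; congr 1; omega
        rw [hcard, show Nat.card D.toAddSubgroup = Nat.card F ^ finrank F D from hDcard, e] at h
        exact Nat.eq_of_mul_eq_mul_left (pow_pos (by omega) _) h
      rw [hidx, hdim, ← Nat.mul_assoc, Nat.mul_comm _ (Nat.card F)] at hb
      exact (Nat.le_of_mul_le_mul_left hb (by omega)).trans (Nat.mul_le_mul_left _ horb)
    · intro h
      have : φ₀ ∈ (⊥ : AddSubgroup (Dual F V)) := h ▸ hφ₀D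
      exact hφ₀ this
    · intro h
      exact hDtop (Submodule.toAddSubgroup_injective (h.trans (by rfl)))
  have hspan : Submodule.span F (D : Set (Dual F V)) = D := Submodule.span_eq D
  have hbig := hR'.pow_mul_le_card_imgs (D : Set (Dual F V)) (X := X) (by rwa [hspan])
  rw [hspan] at hbig
  have hexp : n ≤ finrank F D * finrank F X := by
    obtain ⟨s, hs'⟩ : ∃ s, finrank F D = s + 2 := ⟨finrank F D - 2, by omega⟩
    obtain ⟨t, ht'⟩ : ∃ t, finrank F X = t + 2 := ⟨finrank F X - 2, by omega⟩
    rw [hs', ht'] at hsum ⊢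
    nlinarith
  calc Nat.card F ^ n - 1 ≤ Nat.card F ^ (finrank F D * finrank F X) :=
        (Nat.sub_le _ _).trans (Nat.pow_le_pow_right (by omega) hexp)
    _ ≤ H.index := hbig.trans horb
    _ = 1 * H.index := (Nat.one_mul _).symm
    _ ≤ _ := Nat.mul_le_mul_right _ (by omega)

/-- No transvections at all: large index. -/
theorem empty_case (hn : 3 ≤ n) (hexc : ¬ (n = 4 ∧ Nat.card F = 2)) {H : Subgroup G}
    (hA : ∀ φ : Dual F V, φ ≠ 0 → centres H φ = ⊥) :
    Nat.card F ^ n - 1 ≤ (Nat.card F - 1) * H.index := by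
  classical
  by_contra hsmall
  rw [not_le] at hsmall
  set q := Nat.card F with hqdef
  have hq : 2 ≤ q := Finite.one_lt_card
  have hidx : H.index ≠ 0 := Subgroup.FiniteIndex.index_ne_zero
  obtain ⟨d, rfl⟩ : ∃ d, n = d + 1 := ⟨n - 1, by omega⟩
  have hnoT : ∀ (φ : Dual F (Fin (d + 1) → F)) (u : Fin (d + 1) → F), φ u = 0 → φ ≠ 0 → u ≠ 0 →
      tv φ u ∉ H := by
    intro φ u hu hφ hu0 hH
    have : (⟨u, hu⟩ : LinearMap.ker φ) ∈ centres H φ := hH
    rw [hA φ hφ, AddSubgroup.mem_bot] at this
    exact hu0 (congrArg Subtype.val this)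
  let φ : Dual F (Fin (d + 1) → F) := LinearMap.proj (Fin.last d)
  have hφ : φ ≠ 0 := fun h => one_ne_zero (α := F) (by
    simpa [φ] using LinearMap.congr_fun h (Pi.single (Fin.last d) 1))
  -- every element fixing `φ` is a transvection times an element of `H`
  have hex : ∀ k ∈ fixer φ, ∃ w, φ w = 0 ∧ tv φ w * k ∈ H := by
    intro k hk
    by_contra hne
    push Not at hne
    let f : Bool × LinearMap.ker φ → _ ⧸ H :=
      fun p => ((cond p.1 k 1 * tv φ (p.2 : Fin (d + 1) → F) :
        Matrix.SpecialLinearGroup (Fin (d + 1)) F) : _ ⧸ H)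
    have hcross : ∀ w w' : LinearMap.ker φ, (tv φ (w : Fin (d + 1) → F))⁻¹ *
        (k * tv φ (w' : Fin (d + 1) → F)) ∉ H := by
      intro w w' h
      have hc := tv_conj k (show φ (w' : Fin (d + 1) → F) = 0 from w'.2)
      rw [show dualAct k φ = φ from hk] at hc
      have hkw : φ (gL k (w' : Fin (d + 1) → F)) = 0 := by rw [fixer_apply hk]; exact w'.2
      refine hne (-(w : Fin (d + 1) → F) + gL k (w' : Fin (d + 1) → F))
        (by simp [hkw, show φ (w : Fin (d + 1) → F) = 0 from w.2]) ?_
      rw [tv_add (by simp [show φ (w : Fin (d + 1) → F) = 0 from w.2]) hkw, tv_neg w.2, ← hc]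
      convert h using 1
      group
    have hsame : ∀ (x : Matrix.SpecialLinearGroup (Fin (d + 1)) F) (w w' : LinearMap.ker φ),
        (x * tv φ (w : Fin (d + 1) → F))⁻¹ * (x * tv φ (w' : Fin (d + 1) → F)) ∈ H → w = w' := by
      intro x w w' h
      have : (-w + w' : LinearMap.ker φ) ∈ centres H φ := by
        rw [mem_centres, Submodule.coe_add, Submodule.coe_neg,
          tv_add (by simp [show φ (w : Fin (d + 1) → F) = 0 from w.2]) w'.2, tv_neg w.2]
        convert h using 1
        group
      rw [hA φ hφ, AddSubgroup.mem_bot, neg_add_eq_zero] at this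
      exact this
    have hf : Function.Injective f := by
      rintro ⟨a, w⟩ ⟨b, w'⟩ h
      simp only [f, QuotientGroup.eq] at h
      cases a <;> cases b <;> simp only [cond_true, cond_false, one_mul] at h
      · rw [hsame 1 w w' (by simpa using h)]
      · exact absurd h (hcross w w')
      · have := inv_mem h
        rw [_root_.mul_inv_rev, inv_inv] at this
        exact absurd this (hcross w' w)
      · rw [hsame k w w' h]
    have h2 := Nat.card_le_card_of_injective f hf
    rw [Nat.card_prod, Nat.card_eq_fintype_card (α := Bool), Fintype.card_bool,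
      natCard_eq_q_pow (F := F) (LinearMap.ker φ),
      show finrank F (LinearMap.ker φ) = d by have := finrank_ker_add_one hφ; omega] at h2
    have h2' : 2 * q ^ d ≤ H.index := h2
    have h3 : q ^ (d + 1) ≤ (q - 1) * H.index := by
      calc q ^ (d + 1) = q * q ^ d := pow_succ' q d
        _ ≤ ((q - 1) * 2) * q ^ d := Nat.mul_le_mul_right _ (by omega)
        _ = (q - 1) * (2 * q ^ d) := Nat.mul_assoc _ _ _
        _ ≤ _ := Nat.mul_le_mul_left _ h2'
    omega
  have huniq : ∀ k w w', φ w = 0 → φ w' = 0 → tv φ w * k ∈ H → tv φ w' * k ∈ H → w = w' := by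
    intro k w w' hw hw' h h'
    by_contra hne
    refine hnoT φ (w + -w') (by simp [hw, hw']) hφ (by
      rw [← sub_eq_add_neg]; exact sub_ne_zero.2 hne) ?_
    rw [tv_add hw (by simp [hw']), tv_neg hw']
    convert mul_mem h (inv_mem h') using 1
    group
  have hmul : ∀ g h w v, g ∈ fixer φ → φ w = 0 → φ v = 0 → tv φ w * g ∈ H → tv φ v * h ∈ H →
      tv φ (w + gL g v) * (g * h) ∈ H := by
    intro g h w v hg hw hv h1 h2
    have hc := tv_conj g hv
    rw [show dualAct g φ = φ from hg] at hc
    rw [tv_add hw (by rw [fixer_apply hg, hv]), ← hc]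
    convert mul_mem h1 h2 using 1
    group
  have hcomm : ∀ g h w v, g ∈ fixer φ → h ∈ fixer φ → φ w = 0 → φ v = 0 → tv φ w * g ∈ H →
      tv φ v * h ∈ H → g * h = h * g → w + gL g v = v + gL h w := by
    intro g h w v hg hh hw hv h1 h2 hgh
    refine huniq (g * h) _ _ (by simp [hw, fixer_apply hg, hv]) (by simp [hv, fixer_apply hh, hw])
      (hmul g h w v hg hw hv h1 h2) ?_
    rw [hgh]
    exact hmul h g v w hh hv hw h2 h1
  -- root elements
  have hgLE : ∀ (i j : Fin (d + 1)) (hij : i ≠ j) (a : F) (x : Fin (d + 1) → F) (k : Fin (d + 1)),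
      gL (Matrix.SpecialLinearGroup.transvection hij a) x k =
        x k + if k = i then a * x j else 0 := by
    intro i j hij a x k
    show Matrix.toLin' (Matrix.SpecialLinearGroup.transvection hij a :
      Matrix (Fin (d + 1)) (Fin (d + 1)) F) x k = _
    rw [Matrix.toLin'_apply, Matrix.SpecialLinearGroup.transvection_coe, Matrix.add_mulVec,
      Matrix.one_mulVec, Matrix.single_mulVec]
    simp [Function.update_apply]
  have hEfix : ∀ (i j : Fin (d + 1)) (hij : i ≠ j) (a : F), i ≠ Fin.last d →
      Matrix.SpecialLinearGroup.transvection hij a ∈ fixer φ := by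
    intro i j hij a hi
    show dualAct _ φ = φ
    refine LinearMap.ext fun x => ?_
    obtain ⟨y, rfl⟩ := (gL (Matrix.SpecialLinearGroup.transvection hij a)).surjective x
    rw [dualAct_apply, LinearEquiv.symm_apply_apply]
    simp [φ, hgLE, hi.symm]
  set i0 : Fin (d + 1) := ⟨0, by omega⟩ with hi0
  set i1 : Fin (d + 1) := ⟨1, by omega⟩ with hi1
  have h01 : i0 ≠ i1 := by simp [hi0, hi1]
  have hlast : ∀ k : Fin (d + 1), k.1 < d → k ≠ Fin.last d := fun k hk h => by
    rw [h] at hk; simp at hk
  have hxK := hEfix i0 i1 h01 1 (hlast _ (by simp [hi0]; omega))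
  obtain ⟨w, hw, hwH⟩ := hex _ hxK
  -- all coordinates of `w` other than `i0` vanish
  have hA2 : 3 ≤ d → w i1 = 0 := by
    intro hd
    have h21 : (⟨2, by omega⟩ : Fin (d + 1)) ≠ i1 := by simp [hi1, Fin.ext_iff]
    have hyK := hEfix _ _ h21 1 (hlast _ (by simp; omega))
    obtain ⟨v, hv, hvH⟩ := hex _ hyK
    have hc := hcomm _ _ w v hxK hyK hw hv hwH hvH (g_ext fun x => funext fun k => by
      simp only [gL_mul, hgLE, h01.symm, h21.symm, if_false, add_zero]
      split_ifs <;> ring)
    have := congrFun hc ⟨2, by omega⟩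
    simp [hgLE, hi0, hi1, Fin.ext_iff] at this
    linear_combination -this
  have hB2 : 4 ≤ d → ∀ j : Fin (d + 1), 2 ≤ j.1 → j.1 < d → w j = 0 := by
    intro hd j hj2 hjd
    obtain ⟨i, hi2, hid, hij⟩ : ∃ i : Fin (d + 1), 2 ≤ i.1 ∧ i.1 < d ∧ i ≠ j := by
      by_cases h : j.1 = 2
      · exact ⟨⟨3, by omega⟩, by simp, by simp; omega, by simp [Fin.ext_iff]; omega⟩
      · exact ⟨⟨2, by omega⟩, by simp, by simp; omega, by simp [Fin.ext_iff]; omega⟩
    have hyK := hEfix _ _ hij 1 (hlast _ hid)
    obtain ⟨v, hv, hvH⟩ := hex _ hyK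
    have hne : ∀ k : Fin (d + 1), (k = i → k.1 = i.1) := fun k h => by rw [h]
    have hc := hcomm _ _ w v hxK hyK hw hv hwH hvH (g_ext fun x => funext fun k => by
      simp only [gL_mul, hgLE]
      have e1 : i ≠ i0 := fun h => by rw [h] at hi2; simp [hi0] at hi2
      have e2 : j ≠ i0 := fun h => by rw [h] at hj2; simp [hi0] at hj2
      have e3 : i1 ≠ i := fun h => by rw [← h] at hi2; simp [hi1] at hi2
      simp only [e1, e1.symm, e2, e3, if_false, add_zero]
      split_ifs <;> ring)
    have := congrFun hc i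
    have e1 : i ≠ i0 := fun h => by rw [h] at hi2; simp [hi0] at hi2
    simp [hgLE, e1] at this
    linear_combination -this
  have hA1 : d = 2 → w i1 = 0 := by
    intro hd
    subst hd
    show w 1 = 0
    by_cases h2 : (2 : F) = 0
    · have hsq : Matrix.SpecialLinearGroup.transvection h01 (1 : F) *
          Matrix.SpecialLinearGroup.transvection h01 1 = 1 := by
        rw [← Matrix.SpecialLinearGroup.transvection_add,
          show (1 : F) + 1 = 0 from by rw [← h2]; ring,
          Matrix.SpecialLinearGroup.transvection_coeff_zero]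
      have h1 := hmul _ _ w w hxK hw hw hwH hwH
      rw [hsq] at h1
      have := huniq 1 _ 0 (by simp [hw, fixer_apply hxK]) (map_zero φ) h1 (by simp [tv_zero])
      have := congrFun this i0
      simp [hgLE] at this
      rw [show i1 = (1 : Fin 3) from rfl] at this
      linear_combination this - w i0 * h2
    · let M : Matrix (Fin 3) (Fin 3) F := Matrix.diagonal ![-1, -1, 1]
      let z : Matrix.SpecialLinearGroup (Fin 3) F :=
        ⟨M, by simp [M, Matrix.det_diagonal, Fin.prod_univ_three]⟩
      have hz : ∀ (x : Fin 3 → F) (k : Fin 3), gL z x k = ![-1, -1, 1] k * x k := fun x k => by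
        show Matrix.mulVec M x k = _
        exact Matrix.mulVec_diagonal _ _ _
      have hzK : z ∈ fixer φ := by
        show dualAct z φ = φ
        refine LinearMap.ext fun x => ?_
        obtain ⟨y, rfl⟩ := (gL z).surjective x
        rw [dualAct_apply, LinearEquiv.symm_apply_apply]
        show y 2 = gL z y 2
        simp [hz]
      obtain ⟨v, hv, hvH⟩ := hex _ hzK
      have hc := hcomm _ _ w v hxK hzK hw hv hwH hvH (g_ext fun x => funext fun k => by
        fin_cases k <;> simp [gL_mul, hgLE, hz, hi0, hi1, Fin.ext_iff] <;> ring)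
      have := congrFun hc i1
      simp [hgLE, hz, hi0, hi1, Fin.ext_iff] at this
      exact (mul_eq_zero.1 (show (2 : F) * w 1 = 0 by linear_combination this)).resolve_left h2
  have hB3 : (hd : d = 3) → w ⟨2, by omega⟩ = 0 := by
    intro hd
    subst hd
    show w 2 = 0
    by_cases h2 : (2 : F) = 0
    · obtain ⟨μ, hμ0, hμ1⟩ : ∃ μ : F, μ ≠ 0 ∧ μ * μ ≠ 1 := by
        by_contra hc
        push Not at hc
        apply hexc
        refine ⟨rfl, le_antisymm ?_ hq⟩
        have : ∀ x : F, x = 0 ∨ x = 1 := fun x => by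
          by_cases hx : x = 0
          · exact Or.inl hx
          · right
            rcases mul_self_eq_one_iff.1 (hc x hx) with h | h
            · exact h
            · rw [h]; linear_combination -h2
        rw [hqdef]
        have hsur : Function.Surjective (fun b : Bool => cond b (1 : F) 0) := fun x => by
          rcases this x with h | h
          · exact ⟨false, h.symm⟩
          · exact ⟨true, h.symm⟩
        simpa using Nat.card_le_card_of_surjective _ hsur
      let M : Matrix (Fin 4) (Fin 4) F := Matrix.diagonal ![μ, 1, μ⁻¹, 1]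
      let t : Matrix.SpecialLinearGroup (Fin 4) F :=
        ⟨M, by simp [M, Matrix.det_diagonal, Fin.prod_univ_four, hμ0]⟩
      have ht : ∀ (x : Fin 4 → F) (k : Fin 4), gL t x k = ![μ, 1, μ⁻¹, 1] k * x k := fun x k => by
        show Matrix.mulVec M x k = _
        exact Matrix.mulVec_diagonal _ _ _
      have htK : t ∈ fixer φ := by
        show dualAct t φ = φ
        refine LinearMap.ext fun x => ?_
        obtain ⟨y, rfl⟩ := (gL t).surjective x
        rw [dualAct_apply, LinearEquiv.symm_apply_apply]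
        show y 3 = gL t y 3
        simp [ht]
      have hμK := hEfix i0 i1 h01 μ (hlast _ (by simp [hi0]))
      obtain ⟨v, hv, hvH⟩ := hex _ htK
      obtain ⟨u, hu, huH⟩ := hex _ hμK
      have hrel : Matrix.SpecialLinearGroup.transvection h01 μ * t =
          t * Matrix.SpecialLinearGroup.transvection h01 1 := g_ext fun x => funext fun k => by
        fin_cases k <;> simp [gL_mul, hgLE, ht, hi0, hi1, Fin.ext_iff] <;> ring
      have h2' := hmul _ _ v w htK hv hw hvH hwH
      rw [← hrel] at h2'
      have e1 := huniq _ _ _ (by simp [hu, fixer_apply hμK, hv])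
        (by simp [hv, fixer_apply htK, hw]) (hmul _ _ u v hμK hu hv huH hvH) h2'
      have e1' := congrFun e1 ⟨2, by omega⟩
      simp [hgLE, ht, hi0, hi1, Fin.ext_iff] at e1'
      -- the coefficient is linear in the entry
      have h02 : i0 ≠ (⟨2, by omega⟩ : Fin 4) := by simp [hi0, Fin.ext_iff]
      have hyK := hEfix _ _ h02 1 (hlast _ (by simp [hi0]))
      obtain ⟨y, hy, hyH⟩ := hex _ hyK
      have c1 := congrFun (hcomm _ _ w y hxK hyK hw hy hwH hyH (g_ext fun x => funext fun k => by
        fin_cases k <;> simp [gL_mul, hgLE, hi0, hi1, Fin.ext_iff] <;> ring)) i0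
      have c2 := congrFun (hcomm _ _ u y hμK hyK hu hy huH hyH (g_ext fun x => funext fun k => by
        fin_cases k <;> simp [gL_mul, hgLE, hi0, hi1, Fin.ext_iff] <;> ring)) i0
      simp [hgLE, hi0, hi1, Fin.ext_iff] at c1 c2
      have hne : μ - μ⁻¹ ≠ 0 := by
        rw [sub_ne_zero]
        intro h
        exact hμ1 (by conv_lhs => arg 2; rw [h]
                      exact mul_inv_cancel₀ hμ0)
      refine (mul_eq_zero.1 (show (μ - μ⁻¹) * w 2 = 0 from ?_)).resolve_left hne
      linear_combination e1' + c2 - μ * c1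
    · let M : Matrix (Fin 4) (Fin 4) F := !![1,0,0,0;0,0,-1,0;0,1,0,0;0,0,0,1]
      let t : Matrix.SpecialLinearGroup (Fin 4) F :=
        ⟨M, by simp [M, Matrix.det_succ_row_zero, Fin.sum_univ_succ, Fin.succAbove]⟩
      have ht : ∀ (x : Fin 4 → F) (k : Fin 4), gL t x k = ![x 0, -x 2, x 1, x 3] k := fun x k => by
        show Matrix.mulVec M x k = _
        fin_cases k <;> simp [M, Matrix.mulVec, dotProduct, Fin.sum_univ_four]
      have htK : t ∈ fixer φ := by
        show dualAct t φ = φ
        refine LinearMap.ext fun x => ?_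
        obtain ⟨y, rfl⟩ := (gL t).surjective x
        rw [dualAct_apply, LinearEquiv.symm_apply_apply]
        show y 3 = gL t y 3
        simp [ht]
      have h02 : i0 ≠ (⟨2, by omega⟩ : Fin 4) := by simp [hi0, Fin.ext_iff]
      have hyK := hEfix _ _ h02 1 (hlast _ (by simp [hi0]))
      obtain ⟨y, hy, hyH⟩ := hex _ hyK
      obtain ⟨v, hv, hvH⟩ := hex _ htK
      have c1 := congrFun (hcomm _ _ w y hxK hyK hw hy hwH hyH (g_ext fun x => funext fun k => by
        fin_cases k <;> simp [gL_mul, hgLE, hi0, hi1, Fin.ext_iff] <;> ring)) i0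
      have hrel : Matrix.SpecialLinearGroup.transvection h02 (1 : F) * t =
          t * Matrix.SpecialLinearGroup.transvection h01 1 := g_ext fun x => funext fun k => by
        fin_cases k <;> simp [gL_mul, hgLE, ht, hi0, hi1, Fin.ext_iff] <;> ring
      have h2' := hmul _ _ v w htK hv hw hvH hwH
      rw [← hrel] at h2'
      have e1 := congrFun (huniq _ _ _ (by simp [hy, fixer_apply hyK, hv])
        (by simp [hv, fixer_apply htK, hw]) (hmul _ _ y v hyK hy hv hyH hvH) h2') i1
      simp [hgLE, ht, hi0, hi1, Fin.ext_iff] at e1 c1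
      refine (mul_eq_zero.1 (show (2 : F) * w 2 = 0 from ?_)).resolve_left h2
      linear_combination e1 - c1
  have hwlast : w (Fin.last d) = 0 := hw
  have hzero : ∀ k : Fin (d + 1), k ≠ i0 → w k = 0 := by
    intro k hk
    by_cases hk' : k = Fin.last d
    · rw [hk']; exact hwlast
    have hkd : k.1 < d := by
      have h1 := k.2
      have h2 : k.1 ≠ d := fun h => hk' (Fin.ext h)
      omega
    have hk0 : k.1 ≠ 0 := fun h => hk (Fin.ext h)
    rcases lt_or_ge k.1 2 with hlt | hge
    · have hk1 : k = i1 := by apply Fin.ext; simp [hi1]; omega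
      rw [hk1]
      rcases lt_or_ge d 3 with hd | hd
      · exact hA1 (by omega)
      · exact hA2 hd
    · rcases lt_or_ge d 4 with hd | hd
      · have hd3 : d = 3 := by omega
        have hk2 : k = ⟨2, by omega⟩ := by apply Fin.ext; simp; omega
        rw [hk2]; exact hB3 hd3
      · exact hB2 hd k hge hkd
  -- so a transvection lies in `H`
  have hweq : w = w i0 • Pi.single i0 (1 : F) := funext fun k => by
    by_cases hk : k = i0
    · subst hk; simp
    · simp [Pi.single, Function.update, hk, hzero k hk]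
  let ψ : Dual F (Fin (d + 1) → F) := LinearMap.proj i1 + w i0 • φ
  have hψ0 : ψ (Pi.single i0 1) = 0 := by
    simp [ψ, φ, h01.symm, (hlast i0 (by simp [hi0]; omega)).symm]
  have hψ : ψ ≠ 0 := fun h => one_ne_zero (α := F) (by
    have := LinearMap.congr_fun h (Pi.single i1 1)
    simpa [ψ, φ, (hlast i1 (by simp [hi1]; omega)).symm] using this)
  refine hnoT ψ (Pi.single i0 1) hψ0 hψ (by simp) ?_
  convert hwH using 1
  refine g_ext fun x => funext fun k => ?_
  rw [gL_tv hψ0, gL_mul, gL_tv hw]
  conv_rhs => rw [hweq]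
  by_cases hk : k = i0
  · subst hk
    simp [ψ, φ, hgLE, (hlast i0 (by simp [hi0]; omega)).symm]
    ring
  · simp [ψ, φ, hgLE, hk, (hlast i0 (by simp [hi0]; omega)).symm]

/-- **Every proper subgroup of `SL_n(F)` has index at least `(q^n - 1)/(q - 1)`.** -/
theorem pow_sub_one_le_mul_index (hn : 3 ≤ n) (hexc : ¬ (n = 4 ∧ Nat.card F = 2))
    {H : Subgroup G} (hH : H ≠ ⊤) :
    Nat.card F ^ n - 1 ≤ (Nat.card F - 1) * H.index := by
  classical
  by_contra hsmall
  have hq : 2 ≤ Nat.card F := Finite.one_lt_card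
  have hm : (Nat.card F - 1) * H.index + (Nat.card F - 1) ≤ Nat.card F ^ n - 1 := by
    have h := Projectivization.card F (Fin n → F)
    rw [natCard_eq_q_pow (F := F) (V), finrank_fin_fun] at h
    have hlt : H.index < Nat.card (Projectivization F V) := by
      by_contra hc
      apply hsmall
      rw [h, Nat.mul_comm]
      exact Nat.mul_le_mul_left _ (not_lt.1 hc)
    calc (Nat.card F - 1) * H.index + (Nat.card F - 1)
        = (H.index + 1) * (Nat.card F - 1) := by ring
      _ ≤ _ := Nat.mul_le_mul_right _ hlt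
      _ = _ := h.symm
  have htri : ∀ φ : Dual F V, φ ≠ 0 → centres H φ = ⊥ ∨ centres H φ = ⊤ ∨
      ((∀ g : G, ∃ k ∈ fixer φ, k⁻¹ * g ∈ H) ∧ ∃ U : Submodule F (LinearMap.ker φ),
        U.toAddSubgroup = centres H φ ∧ finrank F U + 1 = finrank F (LinearMap.ker φ)) := by
    intro φ hφ
    by_cases h0 : centres H φ = ⊥
    · exact Or.inl h0
    by_cases h1 : centres H φ = ⊤
    · exact Or.inr (Or.inl h1)
    refine Or.inr (Or.inr ?_)
    have hd := finrank_ker_add_one hφ
    obtain ⟨hbound, heq⟩ := (hasUnip_kerAct hφ).orbit_bound (by omega) (centres H φ) h0 h1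
    obtain ⟨hle, hall⟩ := index_ge_orbit H φ
    have h2 := Nat.mul_le_mul_left (Nat.card F - 1) hle
    have hpow : Nat.card F * (Nat.card F ^ finrank F (LinearMap.ker φ) - 1) =
        Nat.card F ^ n - Nat.card F := by
      rw [Nat.mul_sub, mul_one, ← pow_succ', hd]
    rw [hpow] at hbound heq
    have e1 : (Nat.card F - 1) * (Nat.card (imgs (kerAct φ) (centres H φ : Set (LinearMap.ker φ))) *
        (centres H φ).index) = Nat.card F ^ n - Nat.card F ∧
        (Nat.card F - 1) * H.index = Nat.card F ^ n - Nat.card F := by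
      revert hm hbound h2
      generalize (Nat.card F - 1) * (Nat.card (imgs (kerAct φ) (centres H φ :
        Set (LinearMap.ker φ))) * (centres H φ).index) = a
      generalize (Nat.card F - 1) * H.index = b
      generalize Nat.card F ^ n = c
      intros
      constructor <;> omega
    exact ⟨hall (Nat.eq_of_mul_eq_mul_left (Nat.sub_pos_of_lt hq)
      (e1.1.trans e1.2.symm)), heq e1.1⟩
  by_cases hhyp : ∃ φ : Dual F V, φ ≠ 0 ∧ centres H φ ≠ ⊥ ∧ centres H φ ≠ ⊤
  · obtain ⟨φ, hφ, h0, h1⟩ := hhyp
    obtain ⟨hall, U, hU, hUr⟩ := ((htri φ hφ).resolve_left h0).resolve_left h1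
    refine no_hyperplane_case hn H fun ψ hψ => ?_
    have : Finite (Dual F V) := finite_dual
    obtain ⟨r, ⟨g, rfl⟩, hgψ⟩ := hasUnip_dualAct.transitive (F := F)
      (W := Dual F V) (by rw [Subspace.dual_finrank_eq, finrank_fin_fun]; omega) hφ hψ
    obtain ⟨k, hk, hkH⟩ := hall g⁻¹
    -- `ψ = h • φ` with `h ∈ H`
    set h := (k⁻¹ * g⁻¹)⁻¹ with hh
    have hhH : h ∈ H := inv_mem hkH
    have hhψ : dualAct h φ = ψ := by
      rw [hh, _root_.mul_inv_rev, inv_inv, inv_inv, dualAct_mul, show dualAct k φ = φ from hk, hgψ]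
    refine ⟨(U.map (LinearMap.ker φ).subtype).map (gL h).toLinearMap, fun x => ?_, ?_⟩
    · constructor
      · rintro ⟨y, ⟨w, hw, rfl⟩, rfl⟩
        have hwC : tv φ (w : V) ∈ H := by
          have : w ∈ centres H φ := hU ▸ hw
          exact this
        show ψ (gL h (w : V)) = 0 ∧ tv ψ (gL h (w : V)) ∈ H
        refine ⟨?_, ?_⟩
        · rw [← hhψ, dualAct_apply, LinearEquiv.symm_apply_apply]; exact w.2
        · rw [← hhψ, ← tv_conj h w.2]
          exact mul_mem (mul_mem hhH hwC) (inv_mem hhH)
      · rintro ⟨hx, hxH⟩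
        have hy : φ ((gL h).symm x) = 0 := by
          rw [← dualAct_apply, hhψ]; exact hx
        have hc : (⟨_, hy⟩ : LinearMap.ker φ) ∈ centres H φ := by
          show tv φ ((gL h).symm x) ∈ H
          have := tv_conj h hy
          rw [LinearEquiv.apply_symm_apply, hhψ] at this
          have hm := mul_mem (mul_mem (inv_mem hhH) (this ▸ hxH)) hhH
          convert hm using 1
          group
        rw [← hU] at hc
        exact ⟨_, ⟨_, hc, rfl⟩, (gL h).apply_symm_apply x⟩
    · rw [LinearEquiv.finrank_map_eq, Submodule.finrank_map_subtype_eq]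
      have := finrank_ker_add_one hφ
      omega
  · push Not at hhyp
    by_cases hfull : ∃ φ : Dual F V, φ ≠ 0 ∧ centres H φ = ⊤
    · obtain ⟨φ, hφ, hf⟩ := hfull
      exact hsmall (full_case hn hH (fun ψ hψ => (em _).imp_right (hhyp ψ hψ)) hφ hf)
    · push Not at hfull
      refine hsmall (empty_case hn hexc fun ψ hψ => ?_)
      by_contra h
      exact hfull ψ hψ (hhyp ψ hψ h)

end Cfsg.Agent.KnownSimple
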