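import Mathlib.Analysis.Fourier.FiniteAbelian.PontryaginDuality
import Mathlib.LinearAlgebra.Projectivization.Cardinality
import Mathlib.LinearAlgebra.Dual.Lemmas
import Mathlib.FieldTheory.Finiteness
import Mathlib.LinearAlgebra.FreeModule.Finite.Matrix

/-!
Orbits of additive subgroups of a finite vector space under a group of linear maps containing all
`1 + f` with `f ∘ f = 0` (helper53).
-/

set_option autoImplicit false

namespace Cfsg.Agent.KnownSimple

open Module

universe u
variable {F : Type u} [Field F] {W : Type u} [AddCommGroup W] [Module F W]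

/-- `R` contains all maps `1 + f` with `f ∘ f = 0`. -/
def HasUnip (R : Subgroup (W ≃ₗ[F] W)) : Prop :=
  ∀ f : W →ₗ[F] W, f ∘ₗ f = 0 → ∃ g ∈ R, ∀ x, g x = x + f x

/-- The images of the set `S` under the elements of `R`. -/
def imgs (R : Subgroup (W ≃ₗ[F] W)) (S : Set W) : Set (Set W) :=
  Set.range fun g : R => (g : W ≃ₗ[F] W) '' S

theorem self_mem_imgs (R : Subgroup (W ≃ₗ[F] W)) (S : Set W) : S ∈ imgs R S :=
  ⟨1, by simp⟩

theorem HasUnip.map_move {R : Subgroup (W ≃ₗ[F] W)} (hR : HasUnip R) {x y : W}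
    (h : LinearIndependent F ![x, y]) : ∃ g ∈ R, g x = y := by
  have hli : LinearIndepOn F id ({x, y} : Set W) := by
    have := h.linearIndepOn_id
    simpa [Matrix.range_cons, Set.pair_comm] using this
  obtain ⟨ψ, hψ⟩ := exists_dual_pair_eq_one h
  obtain ⟨g, hg, hgx⟩ := hR (ψ.smulRight (y - x)) (by
    ext z; simp [hψ.1, hψ.2])
  exact ⟨g, hg, by simp [hgx, hψ.1]⟩
where
  exists_dual_pair_eq_one {x y : W} (h : LinearIndependent F ![x, y]) :
      ∃ ψ : W →ₗ[F] F, ψ x = 1 ∧ ψ y = 1 := by
    obtain ⟨L, hL⟩ := LinearMap.exists_extend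
      (p := Submodule.span F (Set.range ![x, y]))
      ((Finsupp.linearCombination F fun _ : Fin 2 => (1 : F)).comp h.repr)
    refine ⟨L, ?_, ?_⟩
    · have := LinearMap.congr_fun hL ⟨x, Submodule.subset_span ⟨0, by simp⟩⟩
      simp only [LinearMap.comp_apply, Submodule.subtype_apply] at this
      rw [this, LinearIndependent.repr_eq_single h 0 _ (by simp)]
      simp
    · have := LinearMap.congr_fun hL ⟨y, Submodule.subset_span ⟨1, by simp⟩⟩
      simp only [LinearMap.comp_apply, Submodule.subtype_apply] at this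
      rw [this, LinearIndependent.repr_eq_single h 1 _ (by simp)]
      simp

variable [Finite W]

theorem exists_not_mem_span_singleton (hd : 2 ≤ finrank F W) (x : W) :
    ∃ z : W, z ∉ Submodule.span F ({x} : Set W) := by
  by_contra hc
  push Not at hc
  have ht : Submodule.span F ({x} : Set W) = ⊤ := eq_top_iff.2 fun z _ => hc z
  have h1 : finrank F (Submodule.span F ({x} : Set W)) ≤ 1 := by
    refine (finrank_span_le_card ({x} : Set W)).trans (by simp)
  rw [ht, finrank_top] at h1
  omega

theorem linearIndependent_pair_of_not_mem {x z : W} (hx : x ≠ 0)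
    (hz : z ∉ Submodule.span F ({x} : Set W)) : LinearIndependent F ![x, z] := by
  rw [LinearIndependent.pair_iff' hx]
  intro a ha
  exact hz (ha ▸ Submodule.smul_mem _ a (Submodule.mem_span_singleton_self x))

theorem HasUnip.transitive {R : Subgroup (W ≃ₗ[F] W)} (hR : HasUnip R)
    (hd : 2 ≤ finrank F W) {x y : W} (hx : x ≠ 0) (hy : y ≠ 0) : ∃ g ∈ R, g x = y := by
  by_cases h : y ∈ Submodule.span F ({x} : Set W)
  · obtain ⟨z, hz⟩ := exists_not_mem_span_singleton hd x
    have hz0 : z ≠ 0 := fun e => hz (e ▸ zero_mem _)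
    have h1 := linearIndependent_pair_of_not_mem hx hz
    have h2 : LinearIndependent F ![y, z] := by
      refine linearIndependent_pair_of_not_mem hy fun hc => hz ?_
      exact Submodule.span_le.2 (Set.singleton_subset_iff.2 h) hc
    have h2' : LinearIndependent F ![z, y] := LinearIndependent.pair_symm_iff.mp h2
    obtain ⟨g, hg, e1⟩ := hR.map_move h1
    obtain ⟨g', hg', e2⟩ := hR.map_move h2'
    exact ⟨g' * g, mul_mem hg' hg, by simp [LinearEquiv.mul_apply, e1, e2]⟩
  · exact hR.map_move (linearIndependent_pair_of_not_mem hx h)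

/-- The conjugates of a set of nonzero vectors cover the nonzero vectors, with the equality case. -/
theorem HasUnip.count {R : Subgroup (W ≃ₗ[F] W)} (hR : HasUnip R) (hd : 2 ≤ finrank F W)
    {S : Set W} (hS0 : (0 : W) ∉ S) (hS : S.Nonempty) :
    Nat.card W - 1 ≤ Nat.card (imgs R S) * Nat.card S ∧
      (Nat.card (imgs R S) * Nat.card S = Nat.card W - 1 →
        ∀ g ∈ R, ∀ a ∈ S, g a ∈ S → g '' S = S) := by
  classical
  obtain ⟨s0, hs0⟩ := hS
  let T : Type u := Σ O : imgs R S, (O : Set W)
  have hne : ∀ t : T, (t.2 : W) ≠ 0 := by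
    rintro ⟨⟨O, ⟨g, rfl⟩⟩, ⟨w, s, hs, rfl⟩⟩ h
    exact hS0 ((LinearEquiv.map_eq_zero_iff _).1 h ▸ hs)
  let f : T → {w : W // w ≠ 0} := fun t => ⟨t.2, hne t⟩
  have hf : Function.Surjective f := by
    rintro ⟨w, hw⟩
    obtain ⟨g, hg, e⟩ := hR.transitive hd (x := s0) (fun e => hS0 (e ▸ hs0)) hw
    exact ⟨⟨⟨_, ⟨⟨g, hg⟩, rfl⟩⟩, ⟨w, s0, hs0, e⟩⟩, rfl⟩
  have : Fintype (imgs R S) := Fintype.ofFinite _
  have cT : Nat.card T = Nat.card (imgs R S) * Nat.card S := by
    have : Fintype S := Fintype.ofFinite _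
    rw [Nat.card_sigma, Finset.sum_const_nat (m := Nat.card S), Finset.card_univ,
      ← Nat.card_eq_fintype_card]
    rintro ⟨O, ⟨g, rfl⟩⟩ -
    exact Nat.card_image_of_injective (LinearEquiv.injective _) S
  have cW : Nat.card {w : W // w ≠ 0} = Nat.card W - 1 := by
    have := Fintype.ofFinite W
    simp [Nat.card_eq_fintype_card, Fintype.card_subtype_compl]
  refine ⟨?_, fun heq g hg a ha hga => ?_⟩
  · rw [← cW, ← cT]
    exact Nat.card_le_card_of_surjective f hf
  · have hinj : Function.Injective f :=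
      ((Nat.bijective_iff_surjective_and_card f).2 ⟨hf, by rw [cT, cW, heq]⟩).1
    have := @hinj ⟨⟨S, self_mem_imgs R S⟩, ⟨g a, hga⟩⟩
      ⟨⟨g '' S, ⟨⟨g, hg⟩, rfl⟩⟩, ⟨g a, a, ha, rfl⟩⟩ rfl
    exact (congrArg (fun t : T => (t.1 : Set W)) this).symm

variable [Finite F]

/-- Conjugates of a set are at least as many as the maps from its span to a complement. -/
theorem HasUnip.pow_mul_le_card_imgs {R : Subgroup (W ≃ₗ[F] W)} (hR : HasUnip R)
    (B : Set W) {X : Submodule F W} (hX : IsCompl (Submodule.span F B) X) :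
    Nat.card F ^ (finrank F (Submodule.span F B) * finrank F X) ≤ Nat.card (imgs R B) := by
  set P := Submodule.span F B
  classical
  let π : W →ₗ[F] P := Submodule.projectionOnto P X hX
  have hsq : ∀ h : P →ₗ[F] X,
      (X.subtype ∘ₗ h ∘ₗ π) ∘ₗ (X.subtype ∘ₗ h ∘ₗ π) = 0 := by
    intro h
    ext z
    simp [π]
  choose g hg hgx using fun h : P →ₗ[F] X => hR _ (hsq h)
  have hinj : Function.Injective
      fun h : P →ₗ[F] X =>
        (⟨(g h) '' B, ⟨⟨g h, hg h⟩, rfl⟩⟩ : imgs R B) := by
    intro h k e0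
    have h' : (g h) '' B = (g k) '' B := congrArg Subtype.val e0
    have hB' : ∀ b : P, (b : W) ∈ B → h b = k b := by
      intro b hb
      obtain ⟨b', hb', e⟩ : g h b ∈ (g k) '' B := h' ▸ ⟨_, hb, rfl⟩
      have hbP : b' ∈ P := Submodule.subset_span hb'
      rw [hgx, hgx] at e
      have p1 : π (b : W) = b := Submodule.projectionOnto_apply_left hX b
      have p2 : π b' = ⟨b', hbP⟩ := Submodule.projectionOnto_apply_left hX ⟨b', hbP⟩
      have p3 : ∀ x : X, π (x : W) = 0 := Submodule.projectionOnto_apply_right hX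
      have e' := congrArg π e
      simp only [map_add, LinearMap.comp_apply, Submodule.subtype_apply, p1, p2, p3,
        add_zero] at e'
      have hbb : b' = b := congrArg Subtype.val e'
      subst hbb
      simp only [LinearMap.comp_apply, Submodule.subtype_apply, p1, add_right_inj] at e
      exact (Subtype.ext e).symm
    exact LinearMap.ext_on (s := ((↑) : P → W) ⁻¹' B)
      Submodule.span_span_coe_preimage fun b hb => hB' b hb
  have hc := Nat.card_le_card_of_injective _ hinj
  rw [Module.natCard_eq_pow_finrank (K := F) (V := P →ₗ[F] X), Module.finrank_linearMap] at hc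
  exact hc

/-- An additive subgroup that misses some line has many conjugates. -/
theorem HasUnip.pow_le_card_imgs {R : Subgroup (W ≃ₗ[F] W)} (hR : HasUnip R)
    {B : AddSubgroup W} (hB : B ≠ ⊥) {u : W} (hu : u ≠ 0)
    (huB : ∀ a : F, a • u ∈ B → a • u = 0) :
    Nat.card F ^ (finrank F W - 1) ≤ Nat.card (imgs R (B : Set W)) := by
  classical
  have hq : 1 ≤ Nat.card F := Nat.card_pos
  rcases eq_or_ne (Submodule.span F (B : Set W)) ⊤ with hsp | hsp
  · let K := LinearMap.ker (Dual.eval F W u)
    have hK : finrank F K = finrank F W - 1 := by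
      have h1 := LinearMap.finrank_range_add_finrank_ker (Dual.eval F W u)
      have h2 : LinearMap.range (Dual.eval F W u) = ⊤ := by
        refine LinearMap.range_eq_top.2 fun a => ?_
        obtain ⟨ψ, hψ⟩ : ∃ ψ : Dual F W, ψ u ≠ 0 := by
          by_contra hc
          push Not at hc
          exact hu ((Module.forall_dual_apply_eq_zero_iff F u).1 hc)
        exact ⟨(a / ψ u) • ψ, by simp [div_mul_cancel₀ a hψ]⟩
      rw [h2, finrank_top, finrank_self, Subspace.dual_finrank_eq] at h1
      have hK' : finrank F K = finrank F (LinearMap.ker (Dual.eval F W u)) := rfl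
      omega
    have hsq : ∀ ψ : K, ((ψ : Dual F W).smulRight u) ∘ₗ ((ψ : Dual F W).smulRight u) = 0 := by
      intro ψ
      ext z
      have : (ψ : Dual F W) u = 0 := ψ.2
      simp [this]
    choose g hg hgx using fun ψ : K => hR _ (hsq ψ)
    have hinj : Function.Injective
        fun ψ : K => (⟨(g ψ) '' (B : Set W), ⟨⟨g ψ, hg ψ⟩, rfl⟩⟩ : imgs R (B : Set W)) := by
      intro ψ χ h
      have h' : (g ψ) '' (B : Set W) = (g χ) '' (B : Set W) := congrArg Subtype.val h
      refine Subtype.ext (LinearMap.ext_on hsp fun b hb => ?_)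
      obtain ⟨b', hb', e⟩ : g ψ b ∈ (g χ) '' (B : Set W) := h' ▸ ⟨b, hb, rfl⟩
      rw [hgx, hgx, LinearMap.smulRight_apply, LinearMap.smulRight_apply] at e
      have e2 : b - b' = ((χ : Dual F W) b' - (ψ : Dual F W) b) • u := by
        rw [sub_smul]; linear_combination (norm := abel) -e
      have h0 : b - b' = 0 := e2.trans (huB _ (e2 ▸ sub_mem hb hb'))
      have hbb : b = b' := sub_eq_zero.1 h0
      subst hbb
      have : ((χ : Dual F W) b - (ψ : Dual F W) b) • u = 0 := by simpa using e2.symm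
      exact ((sub_eq_zero.1 (smul_eq_zero.1 this |>.resolve_right hu))).symm
    have := Nat.card_le_card_of_injective _ hinj
    rwa [Module.natCard_eq_pow_finrank (K := F) (V := K), hK] at this
  · set P := Submodule.span F (B : Set W)
    obtain ⟨X, hX⟩ := Submodule.exists_isCompl P
    have hc := hR.pow_mul_le_card_imgs (B : Set W) hX
    refine le_trans (Nat.pow_le_pow_right hq ?_) hc
    have h1 := Submodule.finrank_add_eq_of_isCompl hX
    have h2 : 1 ≤ finrank F P := by
      rw [Submodule.one_le_finrank_iff]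
      intro hP
      exact hB ((AddSubgroup.eq_bot_iff_forall B).2 fun x hx => by
        have : x ∈ P := Submodule.subset_span hx
        rwa [hP, Submodule.mem_bot] at this)
    have h3 : 1 ≤ finrank F X := by
      rw [Submodule.one_le_finrank_iff]
      rintro rfl
      exact hsp (eq_top_of_isCompl_bot hX)
    obtain ⟨s, hs⟩ := Nat.exists_eq_add_of_le h2
    obtain ⟨t, ht⟩ := Nat.exists_eq_add_of_le h3
    rw [hs, ht] at h1 ⊢
    rw [← h1]
    have : (1 + s) * (1 + t) = 1 + s + t + s * t := by ring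
    omega

/-- The contragredient action on the dual space. -/
noncomputable def contra : (W ≃ₗ[F] W) →* (Dual F W ≃ₗ[F] Dual F W) where
  toFun g := g.symm.dualMap
  map_one' := by ext f x; rfl
  map_mul' g h := by ext f x; rfl

omit [Finite F] in
theorem contra_apply (g : W ≃ₗ[F] W) (f : Dual F W) (x : W) :
    contra g f x = f (g.symm x) := rfl

omit [Finite F] in
theorem HasUnip.dual {R : Subgroup (W ≃ₗ[F] W)} (hR : HasUnip R) : HasUnip (R.map contra) := by
  intro f hf
  let f' : W →ₗ[F] W :=
    (evalEquiv F W).symm.toLinearMap ∘ₗ f.dualMap ∘ₗ (evalEquiv F W).toLinearMap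
  have key : ∀ (ψ : Dual F W) (x : W), ψ (f' x) = f ψ x := fun ψ x => by
    simp [f', apply_evalEquiv_symm_apply]
  have hf' : f' ∘ₗ f' = 0 := by
    ext x
    apply (Module.forall_dual_apply_eq_zero_iff F _).1
    intro ψ
    rw [LinearMap.comp_apply, key, key]
    have := LinearMap.congr_fun (LinearMap.congr_fun hf ψ) x
    simpa using this
  obtain ⟨g, hg, hgx⟩ := hR (-f') (by
    rw [LinearMap.neg_comp, LinearMap.comp_neg, hf', neg_zero, neg_zero])
  have hinv : ∀ x, g.symm x = x + f' x := fun x => by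
    apply g.injective
    have := LinearMap.congr_fun hf' x
    simp only [LinearMap.comp_apply, LinearMap.zero_apply] at this
    rw [LinearEquiv.apply_symm_apply, hgx]
    simp [this]
  refine ⟨contra g, ⟨g, hg, rfl⟩, fun ψ => ?_⟩
  ext x
  rw [contra_apply, hinv, map_add, key]
  rfl

/-- The arithmetic behind the orbit bound. -/
theorem orbit_arith {q d a c s b : ℕ} (hq : 2 ≤ q) (hd : 2 ≤ d) (hac : a * c = q ^ d)
    (hc : 1 < c) (hsc : s ≤ c) (h1 : q ^ d - 1 ≤ b * (s - 1)) (h2 : q ^ d - 1 ≤ b * (a - 1))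
    (h3 : (s - 1) * (q - 1) < q ^ d - 1 → q ^ (d - 1) ≤ b) :
    q * (q ^ d - 1) ≤ (q - 1) * (b * c) ∧
      ((q - 1) * (b * c) = q * (q ^ d - 1) → c = q ∧ s = q ∧ b * (q - 1) = q ^ d - 1) := by
  obtain ⟨Q, hQ⟩ : ∃ Q, q ^ d = Q + 1 := ⟨q ^ d - 1, by
    have : 1 ≤ q ^ d := Nat.one_le_pow _ _ (by omega)
    omega⟩
  have hQ1 : 3 ≤ Q := by
    have : q ^ 2 ≤ q ^ d := Nat.pow_le_pow_right (by omega) hd
    nlinarith
  obtain ⟨r, rfl⟩ : ∃ r, q = r + 1 := ⟨q - 1, by omega⟩
  have hs1 : 1 ≤ s - 1 := by
    by_contra hcon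
    simp only [show s - 1 = 0 by omega, mul_zero] at h1
    omega
  obtain ⟨s', rfl⟩ : ∃ s', s = s' + 1 := ⟨s - 1, by omega⟩
  obtain ⟨c', rfl⟩ : ∃ c', c = c' + 1 := ⟨c - 1, by omega⟩
  rw [hQ] at h1 h2 hac h3 ⊢
  simp only [Nat.add_sub_cancel] at h1 h2 h3 hs1 ⊢
  rcases lt_trichotomy c' r with hlt | rfl | hgt
  · have e1 : b * s' ≤ b * c' := Nat.mul_le_mul_left _ (by omega)
    have e2 : (b * c') + b ≤ b * r := by
      calc b * c' + b = b * (c' + 1) := by ring
        _ ≤ b * r := Nat.mul_le_mul_left _ hlt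
    have e3 : (r + 1) * Q < r * (b * (c' + 1)) := by
      have e4 : r * (b * (c' + 1)) = r * (b * c') + r * b := by ring
      have e5 : r * Q ≤ r * (b * c') := Nat.mul_le_mul_left _ (by omega)
      have e6 : (r + 1) * Q = r * Q + Q := by ring
      have hb : 0 < b := by
        by_contra h
        simp [show b = 0 by omega] at h1
        omega
      have e7 : r * b = b * r := Nat.mul_comm _ _
      omega
    exact ⟨e3.le, fun h => by omega⟩
  · have e1 : b * s' ≤ b * c' := Nat.mul_le_mul_left _ (by omega)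
    have e2 : c' * (b * (c' + 1)) = (b * c') * (c' + 1) := by ring
    refine ⟨?_, fun h => ?_⟩
    · rw [e2, Nat.mul_comm (c' + 1) Q]
      exact Nat.mul_le_mul_right _ (by omega)
    · rw [e2, Nat.mul_comm (c' + 1) Q] at h
      have := Nat.eq_of_mul_eq_mul_right (by omega) h
      refine ⟨rfl, ?_, this⟩
      by_contra hne
      have hb : 0 < b := by
        by_contra h
        simp [show b = 0 by omega] at h1
        omega
      have : b * s' < b * c' := Nat.mul_lt_mul_of_pos_left (by omega) hb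
      omega
  · have e3 : (r + 1) * Q < r * (b * (c' + 1)) := by
      by_cases hcase : s' * r < Q
      · have hb := h3 hcase
        have hne : c' ≠ r + 1 := by
          rintro rfl
          have hdvd : r + 1 + 1 ∣ (r + 1) ^ d := by rw [hQ]; exact ⟨a, by rw [← hac]; ring⟩
          have hco : Nat.Coprime (r + 1 + 1) ((r + 1) ^ d) :=
            Nat.Coprime.pow_right _ (by simp)
          exact absurd (Nat.eq_one_of_dvd_coprimes hco dvd_rfl hdvd) (by omega)
        have e4 : (r + 1) * (r + 1) ≤ r * (c' + 1) := by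
          have : r * (r + 3) ≤ r * (c' + 1) := Nat.mul_le_mul_left _ (by omega)
          nlinarith
        calc (r + 1) * Q < (r + 1) * (Q + 1) := Nat.mul_lt_mul_of_pos_left (by omega) (by omega)
          _ = (r + 1) ^ (d - 1) * ((r + 1) * (r + 1)) := by
            rw [← hQ, ← pow_succ', ← pow_two, ← pow_add]; congr 1; omega
          _ ≤ b * (r * (c' + 1)) := Nat.mul_le_mul hb e4
          _ = r * (b * (c' + 1)) := by ring
      · have hge : Q ≤ c' * r := (Nat.le_of_not_lt hcase).trans (Nat.mul_le_mul_right _ (by omega))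
        have ha : a ≤ r := by
          by_contra hcon
          have : (r + 1) * (c' + 1) ≤ a * (c' + 1) := Nat.mul_le_mul_right _ (by omega)
          nlinarith
        have e5 : b * (a - 1) + b ≤ b * r := by
          have ha1 : 1 ≤ a := by
            rcases Nat.eq_zero_or_pos a with rfl | h
            · simp at hac
            · exact h
          calc b * (a - 1) + b = b * ((a - 1) + 1) := by ring
            _ ≤ b * r := Nat.mul_le_mul_left _ (by omega)
        have hb : 0 < b := by
          by_contra h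
          simp [show b = 0 by omega] at h1
          omega
        calc (r + 1) * Q < (r + 1) * (b * r) := Nat.mul_lt_mul_of_pos_left (by omega) (by omega)
          _ ≤ (c' + 1) * (b * r) := Nat.mul_le_mul_right _ (by omega)
          _ = r * (b * (c' + 1)) := by ring
    exact ⟨e3.le, fun h => by omega⟩

theorem finite_dual : Finite (Dual F W) :=
  Finite.of_injective (fun f : Dual F W => (f : W → F)) DFunLike.coe_injective

/-- **The orbit bound**: -/
theorem HasUnip.orbit_bound {R : Subgroup (W ≃ₗ[F] W)} (hR : HasUnip R) (hd : 2 ≤ finrank F W)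
    (A : AddSubgroup W) (hA0 : A ≠ ⊥) (hA1 : A ≠ ⊤) :
    Nat.card F * (Nat.card F ^ finrank F W - 1) ≤
        (Nat.card F - 1) * (Nat.card (imgs R (A : Set W)) * A.index) ∧
      ((Nat.card F - 1) * (Nat.card (imgs R (A : Set W)) * A.index) =
          Nat.card F * (Nat.card F ^ finrank F W - 1) →
        ∃ U : Submodule F W, U.toAddSubgroup = A ∧ finrank F U + 1 = finrank F W) := by
  classical
  have : Finite (Dual F W) := finite_dual
  obtain ⟨e, he⟩ : ∃ e : AddChar F ℂ, e ≠ 1 := by
    obtain ⟨e, he⟩ := AddChar.exists_apply_ne_zero.2 (one_ne_zero (α := F))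
    exact ⟨e, fun h => he (by rw [h]; rfl)⟩
  let pull : Dual F W → AddChar W ℂ := fun ψ => e.compAddMonoidHom ψ.toAddMonoidHom
  have pull_inj : Function.Injective pull := by
    intro ψ χ h
    by_contra hne
    obtain ⟨x, hx⟩ : ∃ x, (ψ - χ) x ≠ 0 := by
      by_contra hc
      push Not at hc
      exact hne (sub_eq_zero.1 (LinearMap.ext hc))
    apply he
    ext t
    have h' := DFunLike.congr_fun h ((t / (ψ - χ) x) • x)
    simp only [pull, AddChar.compAddMonoidHom_apply, LinearMap.toAddMonoidHom_coe, map_smul,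
      smul_eq_mul] at h'
    have : t = t / (ψ - χ) x * ψ x + -(t / (ψ - χ) x * χ x) := by
      rw [← sub_eq_add_neg, ← mul_sub, ← LinearMap.sub_apply, div_mul_cancel₀ t hx]
    rw [this, AddChar.map_add_eq_mul, h', ← AddChar.map_add_eq_mul, add_neg_cancel,
      AddChar.map_zero_eq_one]
    rfl
  have pull_surj : Function.Surjective pull := by
    have := Fintype.ofFinite W
    have := Fintype.ofFinite (Dual F W)
    have := Fintype.ofFinite (AddChar W ℂ)
    exact ((Nat.bijective_iff_injective_and_card pull).2 ⟨pull_inj, by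
      rw [Module.natCard_eq_pow_finrank (K := F) (V := Dual F W), Subspace.dual_finrank_eq,
        ← Module.natCard_eq_pow_finrank (K := F) (V := W), Nat.card_eq_fintype_card,
        Nat.card_eq_fintype_card]
      convert (AddChar.card_eq (α := W)).symm⟩).2
  let annSet : Set W → Set (Dual F W) := fun S => {ψ | ∀ x ∈ S, e (ψ x) = 1}
  let B : AddSubgroup (Dual F W) :=
    { carrier := annSet A
      zero_mem' := fun x _ => by simp
      add_mem' := fun {ψ χ} h k x hx => by
        simp [AddChar.map_add_eq_mul, h x hx, k x hx]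
      neg_mem' := fun {ψ} h x hx => by simp [AddChar.map_neg_eq_inv, h x hx] }
  have hsc : Nat.card B ≤ A.index := by
    have := Fintype.ofFinite (W ⧸ A)
    rw [AddSubgroup.index, Nat.card_eq_fintype_card (α := W ⧸ A), ← AddChar.card_eq,
      ← Nat.card_eq_fintype_card]
    refine Nat.card_le_card_of_injective (fun ψ : B =>
      AddChar.toAddMonoidHomEquiv.symm (QuotientAddGroup.lift A
        (AddChar.toAddMonoidHomEquiv (pull ψ.1)) fun x hx => by
          simp [pull, ψ.2 x hx])) ?_
    intro ψ χ h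
    refine Subtype.ext (pull_inj (DFunLike.ext _ _ fun x => ?_))
    have := DFunLike.congr_fun h (x : W ⧸ A)
    simpa using this
  have hB0 : B ≠ ⊥ := by
    obtain ⟨x, hx⟩ : ∃ x : W, x ∉ A := by
      by_contra hc; push Not at hc; exact hA1 (eq_top_iff.2 fun y _ => hc y)
    obtain ⟨χ, hχ⟩ := AddChar.exists_apply_ne_zero.2
      (show (x : W ⧸ A) ≠ 0 by rwa [ne_eq, QuotientAddGroup.eq_zero_iff])
    obtain ⟨ψ, hψ⟩ := pull_surj (χ.compAddMonoidHom (QuotientAddGroup.mk' A))
    have hv : ∀ y : W, e (ψ y) = χ (y : W ⧸ A) := fun y => DFunLike.congr_fun hψ y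
    intro hB
    have hψB : ψ ∈ B := fun y hy => by
      rw [hv, (QuotientAddGroup.eq_zero_iff y).2 hy, AddChar.map_zero_eq_one]
    rw [hB, AddSubgroup.mem_bot] at hψB
    exact hχ (by rw [← hv, hψB]; simp)
  let R' := R.map (contra (F := F) (W := W))
  have hR' : HasUnip R' := hR.dual
  have hd' : 2 ≤ finrank F (Dual F W) := by rwa [Subspace.dual_finrank_eq]
  have himg : ∀ g : W ≃ₗ[F] W, contra g '' (B : Set (Dual F W)) = annSet (g '' A) := by
    intro g
    ext ψ
    constructor
    · rintro ⟨χ, hχ, rfl⟩ x ⟨y, hy, rfl⟩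
      simpa [contra_apply] using hχ y hy
    · intro h
      refine ⟨contra g⁻¹ ψ, fun x hx => ?_, ?_⟩
      · rw [contra_apply]; exact h _ ⟨x, hx, rfl⟩
      · rw [← LinearEquiv.mul_apply, ← map_mul, mul_inv_cancel, map_one]; rfl
  have hbb : Nat.card (imgs R' (B : Set (Dual F W))) ≤ Nat.card (imgs R (A : Set W)) := by
    refine Nat.card_le_card_of_surjective (fun O : imgs R (A : Set W) =>
      (⟨annSet O, by
        obtain ⟨g, hg⟩ := O.2
        exact ⟨⟨contra g.1, ⟨g.1, g.2, rfl⟩⟩, by rw [← hg]; exact himg g.1⟩⟩ :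
        imgs R' (B : Set (Dual F W)))) ?_
    rintro ⟨O, ⟨⟨g', g, hg, rfl⟩, rfl⟩⟩
    exact ⟨⟨_, ⟨⟨g, hg⟩, rfl⟩⟩, Subtype.ext (himg g).symm⟩
  have hdiff : ∀ (V : Type u) [AddCommGroup V] (H : AddSubgroup V) [Finite V],
      Nat.card ↥((H : Set V) \ {0}) = Nat.card H - 1 := by
    intro V _ H _
    rw [Nat.card_coe_set_eq, Set.ncard_sdiff_singleton_of_mem H.zero_mem]
    rfl
  have himgdiff : ∀ {V : Type u} [AddCommGroup V] [Module F V] [Finite V]
      (R₀ : Subgroup (V ≃ₗ[F] V)) (H : AddSubgroup V),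
      Nat.card (imgs R₀ ((H : Set V) \ {0})) ≤ Nat.card (imgs R₀ (H : Set V)) := by
    intro V _ _ _ R₀ H
    refine Nat.card_le_card_of_surjective (fun O : imgs R₀ (H : Set V) =>
      (⟨(O : Set V) \ {0}, by
        obtain ⟨g, hg⟩ := O.2
        refine ⟨g, ?_⟩
        rw [← hg]
        show _ '' _ = _
        dsimp only
        rw [Set.image_sdiff g.1.injective]
        simp⟩ : imgs R₀ ((H : Set V) \ {0}))) ?_
    rintro ⟨O, ⟨g, rfl⟩⟩
    refine ⟨⟨_, ⟨g, rfl⟩⟩, Subtype.ext ?_⟩
    dsimp only
    rw [Set.image_sdiff g.1.injective]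
    simp
  have hne : ∀ {V : Type u} [AddCommGroup V] (H : AddSubgroup V), H ≠ ⊥ →
      ((H : Set V) \ {0}).Nonempty := by
    intro V _ H hH
    obtain ⟨x, hx, hx0⟩ := (AddSubgroup.bot_or_exists_ne_zero H).resolve_left hH
    exact ⟨x, hx, hx0⟩
  have cW : Nat.card W = Nat.card F ^ finrank F W := Module.natCard_eq_pow_finrank
  have cD : Nat.card (Dual F W) = Nat.card F ^ finrank F W := by
    rw [Module.natCard_eq_pow_finrank (K := F), Subspace.dual_finrank_eq]
  set q := Nat.card F
  set d := finrank F W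
  set b := Nat.card (imgs R (A : Set W))
  have hq : 2 ≤ q := Finite.one_lt_card
  have hbu := (hR'.count hd' (S := (B : Set (Dual F W)) \ {0}) (by simp) (hne B hB0))
  rw [cD, hdiff] at hbu
  have h1 : q ^ d - 1 ≤ b * (Nat.card B - 1) :=
    hbu.1.trans (Nat.mul_le_mul_right _ ((himgdiff R' B).trans hbb))
  have h2 : q ^ d - 1 ≤ b * (Nat.card A - 1) := by
    have := (hR.count hd (S := (A : Set W) \ {0}) (by simp) (hne A hA0)).1
    rw [cW, hdiff] at this
    exact this.trans (Nat.mul_le_mul_right _ (himgdiff R A))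
  have hac : Nat.card A * A.index = q ^ d := by
    rw [← cW]; exact A.card_mul_index
  have hc1 : 1 < A.index := by
    have h0 : A.index ≠ 0 := AddSubgroup.FiniteIndex.index_ne_zero
    have : A.index ≠ 1 := fun h => hA1 (AddSubgroup.index_eq_one.1 h)
    omega
  have h3 : (Nat.card B - 1) * (q - 1) < q ^ d - 1 → q ^ (d - 1) ≤ b := by
    intro hlt
    obtain ⟨u, hu0, huB⟩ : ∃ u : Dual F W, u ≠ 0 ∧ ∀ a : F, a • u ∈ B → a • u = 0 := by
      by_contra hc
      push Not at hc
      choose a ha ha0 using hc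
      let f : Projectivization F (Dual F W) → ↥((B : Set (Dual F W)) \ {0}) := fun P =>
        ⟨a P.rep P.rep_nonzero • P.rep, ha _ _, ha0 _ _⟩
      have finj : Function.Injective f := by
        intro P Q h
        have h' : a P.rep P.rep_nonzero • P.rep = a Q.rep Q.rep_nonzero • Q.rep :=
          congrArg Subtype.val h
        rw [← P.mk_rep, ← Q.mk_rep, Projectivization.mk_eq_mk_iff']
        have hne : a P.rep P.rep_nonzero ≠ 0 := fun e0 =>
          ha0 _ P.rep_nonzero (by rw [e0, zero_smul])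
        refine ⟨(a P.rep P.rep_nonzero)⁻¹ * a Q.rep Q.rep_nonzero, ?_⟩
        rw [mul_smul, ← h', inv_smul_smul₀ hne]
      have := Nat.card_le_card_of_injective f finj
      rw [hdiff] at this
      have h4 := Projectivization.card (k := F) (V := Dual F W)
      rw [cD] at h4
      have h5 : q ^ d - 1 = Nat.card (Projectivization F (Dual F W)) * (q - 1) := h4
      have := Nat.mul_le_mul_right (q - 1) this
      omega
    have := hR'.pow_le_card_imgs hB0 hu0 huB
    rw [Subspace.dual_finrank_eq] at this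
    exact this.trans hbb
  have key := orbit_arith hq hd hac hc1 hsc h1 h2 h3
  refine ⟨key.1, fun heq => ?_⟩
  obtain ⟨hcq, hsq, hbq⟩ := key.2 heq
  obtain ⟨a₀, ha₀⟩ := hne B hB0
  have heq' : Nat.card (imgs R' ((B : Set (Dual F W)) \ {0})) * (Nat.card B - 1) = q ^ d - 1 := by
    refine le_antisymm ?_ hbu.1
    rw [← hbq, hsq]
    exact Nat.mul_le_mul_right _ ((himgdiff R' B).trans hbb)
  have hTI : ∀ g ∈ R', g a₀ = a₀ → ∀ w ∈ B, g w ∈ B := by
    intro g hg hga w hw
    by_cases hw0 : w = 0
    · simp [hw0]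
    have := hbu.2 heq' g hg a₀ ha₀ (by rw [hga]; exact ha₀)
    have hw' : g w ∈ g '' ((B : Set (Dual F W)) \ {0}) := ⟨w, ⟨hw, hw0⟩, rfl⟩
    rw [this] at hw'
    exact hw'.1
  have ha₀0 : a₀ ≠ 0 := ha₀.2
  have hline : ∀ w ∈ B, w ∈ Submodule.span F ({a₀} : Set (Dual F W)) := by
    intro w hw
    by_contra hwn
    obtain ⟨L, hL1, hL2⟩ : ∃ L : Dual F W →ₗ[F] F, L w ≠ 0 ∧ L a₀ = 0 := by
      obtain ⟨L, hL1, hL2⟩ := Submodule.exists_dual_map_eq_bot_of_notMem hwn inferInstance
      refine ⟨L, hL1, ?_⟩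
      have hmem : L a₀ ∈ Submodule.map L (Submodule.span F ({a₀} : Set (Dual F W))) :=
        ⟨a₀, Submodule.mem_span_singleton_self a₀, rfl⟩
      rwa [hL2, Submodule.mem_bot] at hmem
    have hmem : ∀ t : F, w + t • a₀ ∈ B := by
      intro t
      obtain ⟨g, hg, hgx⟩ := hR' (((t / L w) • L).smulRight a₀) (by
        ext z; simp [hL2])
      have h1 : g a₀ = a₀ := by rw [hgx]; simp [hL2]
      have := hTI g hg h1 w hw
      rwa [hgx, LinearMap.smulRight_apply, LinearMap.smul_apply, smul_eq_mul,
        div_mul_cancel₀ t hL1] at this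
    let f : Option F → B := fun o => o.elim 0 fun t => ⟨w + t • a₀, hmem t⟩
    have finj : Function.Injective f := by
      intro o o' h
      rcases o with _ | t <;> rcases o' with _ | t'
      · rfl
      · exfalso; have h' : (0 : Dual F W) = w + t' • a₀ := congrArg Subtype.val h
        exact hwn (Submodule.mem_span_singleton.2 ⟨-t', by rw [neg_smul, neg_eq_iff_add_eq_zero, add_comm, ← h']⟩)
      · exfalso; have h' : w + t • a₀ = (0 : Dual F W) := congrArg Subtype.val h
        exact hwn (Submodule.mem_span_singleton.2 ⟨-t, by rw [neg_smul, neg_eq_iff_add_eq_zero, add_comm, h']⟩)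
      · have h' : w + t • a₀ = w + t' • a₀ := congrArg Subtype.val h
        have h'' : t • a₀ = t' • a₀ := add_left_cancel h'
        rw [smul_left_injective F ha₀0 h'']
    have := Nat.card_le_card_of_injective f finj
    rw [Finite.card_option, hsq] at this
    omega
  have hfull : ∀ t : F, t • a₀ ∈ B := by
    let f : B → F := fun w => (Submodule.mem_span_singleton.1 (hline w.1 w.2)).choose
    have hf : ∀ w : B, f w • a₀ = (w : Dual F W) := fun w =>
      (Submodule.mem_span_singleton.1 (hline w.1 w.2)).choose_spec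
    have finj : Function.Injective f := fun w w' h => Subtype.ext (by rw [← hf w, ← hf w', h])
    intro t
    obtain ⟨w, rfl⟩ := ((Nat.bijective_iff_injective_and_card f).2 ⟨finj, hsq⟩).2 t
    rw [hf]; exact w.2
  refine ⟨LinearMap.ker a₀, ?_, ?_⟩
  · have hsub : A ≤ (LinearMap.ker a₀).toAddSubgroup := by
      intro x hx
      show a₀ x = 0
      by_contra h0
      apply he
      ext t
      have := hfull (t / a₀ x) x hx
      rwa [LinearMap.smul_apply, smul_eq_mul, div_mul_cancel₀ t h0] at this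
    refine (AddSubgroup.eq_of_le_of_card_ge hsub ?_).symm
    show Nat.card (LinearMap.ker a₀) ≤ _
    have hr := Module.Dual.finrank_ker_add_one_of_ne_zero ha₀0
    rw [Module.natCard_eq_pow_finrank (K := F) (V := LinearMap.ker a₀)]
    have hpow : q ^ d = q ^ finrank F (LinearMap.ker a₀) * q := by
      rw [← pow_succ, hr]
    rw [hcq, hpow] at hac
    exact (Nat.eq_of_mul_eq_mul_right (by omega) hac).ge
  · exact Module.Dual.finrank_ker_add_one_of_ne_zero ha₀0

end Cfsg.Agent.KnownSimple
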