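import Cfsg.Agent.KnownSimple.PSLMinIndex.OrbitBound
import Cfsg.Agent.Lib.LinearGroup.Generation
import Mathlib.FieldTheory.Finite.Basic
import Mathlib.LinearAlgebra.Matrix.SpecialLinearGroup

/-!
Every proper subgroup of `SL_n(F)`, `n ≥ 3`, `(n,q) ≠ (4,2)`, has index at least
`(q^n - 1)/(q - 1)` (helper53).
-/

set_option autoImplicit false

namespace Cfsg.Agent.KnownSimple

open Module Matrix

universe u
variable {F : Type u} [Field F] [Finite F] {n : ℕ}

local notation "G" => Matrix.SpecialLinearGroup (Fin n) F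
local notation "V" => Fin n → F

omit [Finite F] in
theorem natCard_eq_q_pow (W : Type u) [AddCommGroup W] [Module F W] [Module.Finite F W] :
    Nat.card W = Nat.card F ^ finrank F W := Module.natCard_eq_pow_finrank

theorem det_one_add_of_sq_zero (f : V →ₗ[F] V) (hf : f ∘ₗ f = 0) :
    LinearMap.det (1 + f) = 1 := by
  obtain ⟨p, hchar⟩ := CharP.exists F
  have hp : Fact p.Prime := ⟨CharP.char_is_prime F p⟩
  have hpow : ∀ k : ℕ, (1 + f) ^ k = 1 + k • f := by
    intro k
    induction k with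
    | zero => simp
    | succ k ih =>
      rw [pow_succ, ih, add_mul, one_mul, smul_mul_assoc, mul_add, mul_one,
        show f * f = 0 from hf, add_zero, succ_nsmul]
      abel
  have h1 : p • f = 0 := by
    rw [← Nat.cast_smul_eq_nsmul F p f, CharP.cast_eq_zero, zero_smul]
  have h2 : LinearMap.det (1 + f) ^ p = 1 := by
    rw [← map_pow, hpow, h1, add_zero, map_one]
  exact frobenius_inj F p (by simpa [frobenius_def] using h2)

/-- The element `1 + f` of `SL n F` for a square zero map `f`. -/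
noncomputable def unipG (f : V →ₗ[F] V) (hf : f ∘ₗ f = 0) : G :=
  ⟨LinearMap.toMatrix' (1 + f), by rw [LinearMap.det_toMatrix']; exact det_one_add_of_sq_zero f hf⟩

/-- The linear map of an element of `SL n F`. -/
noncomputable def gL : G →* (V ≃ₗ[F] V) := Matrix.SpecialLinearGroup.toLin'

theorem gL_unipG (f : V →ₗ[F] V) (hf : f ∘ₗ f = 0) (x : V) : gL (unipG f hf) x = x + f x := by
  show Matrix.toLin' (LinearMap.toMatrix' (1 + f)) x = _
  rw [Matrix.toLin'_toMatrix']
  rfl

omit [Finite F] in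
theorem g_ext {g h : G} (e : ∀ x, gL g x = gL h x) : g = h :=
  Matrix.SpecialLinearGroup.toLin'_injective (LinearEquiv.ext e)

omit [Finite F] in
theorem gL_mul (g h : G) (x : V) : gL (g * h) x = gL g (gL h x) := by
  rw [map_mul, LinearEquiv.mul_apply]

omit [Finite F] in
theorem gL_inv_apply (g : G) (x : V) : gL g⁻¹ x = (gL g).symm x := by
  rw [map_inv]; rfl

theorem hasUnip_gL : HasUnip (gL (F := F) (n := n)).range :=
  fun f hf => ⟨gL (unipG f hf), ⟨_, rfl⟩, gL_unipG f hf⟩

/-- The action of `SL n F` on linear functionals. -/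
noncomputable def dualAct : G →* (Dual F V ≃ₗ[F] Dual F V) := contra.comp gL

omit [Finite F] in
theorem dualAct_apply (g : G) (φ : Dual F V) (x : V) : dualAct g φ x = φ ((gL g).symm x) := rfl

omit [Finite F] in
theorem dualAct_mul (g h : G) (φ : Dual F V) : dualAct (g * h) φ = dualAct g (dualAct h φ) := by
  rw [map_mul, LinearEquiv.mul_apply]

theorem hasUnip_dualAct : HasUnip (dualAct (F := F) (n := n)).range := by
  intro f hf
  obtain ⟨r, ⟨g0, ⟨g, rfl⟩, rfl⟩, hr⟩ := (hasUnip_gL (F := F) (n := n)).dual f hf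
  exact ⟨_, ⟨g, rfl⟩, hr⟩

open Classical in
/-- The transvection `x ↦ x + φ x • u` (junk value `1` unless `φ u = 0`). -/
noncomputable def tv (φ : Dual F V) (u : V) : G :=
  if h : φ u = 0 then unipG (φ.smulRight u) (by ext x; simp [h]) else 1

theorem gL_tv {φ : Dual F V} {u : V} (h : φ u = 0) (x : V) : gL (tv φ u) x = x + φ x • u := by
  rw [tv, dif_pos h, gL_unipG]; rfl

theorem tv_add {φ : Dual F V} {u v : V} (hu : φ u = 0) (hv : φ v = 0) :
    tv φ (u + v) = tv φ u * tv φ v := by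
  refine g_ext fun x => ?_
  rw [gL_mul, gL_tv hu, gL_tv hv, gL_tv (by simp [hu, hv])]
  simp [hv]
  abel

theorem tv_zero (φ : Dual F V) : tv φ 0 = 1 := g_ext fun x => by simp [gL_tv (map_zero φ)]

theorem tv_neg {φ : Dual F V} {u : V} (hu : φ u = 0) : tv φ (-u) = (tv φ u)⁻¹ := by
  rw [eq_inv_iff_mul_eq_one, ← tv_add (by simp [hu]) hu, neg_add_cancel, tv_zero]

theorem tv_smul {φ : Dual F V} {u : V} (hu : φ u = 0) (a : F) : tv (a • φ) u = tv φ (a • u) := by
  refine g_ext fun x => ?_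
  rw [gL_tv (by simp [hu]), gL_tv (by simp [hu])]
  simp [smul_smul, mul_comm]

theorem tv_conj (g : G) {φ : Dual F V} {u : V} (hu : φ u = 0) :
    g * tv φ u * g⁻¹ = tv (dualAct g φ) (gL g u) := by
  refine g_ext fun x => ?_
  rw [gL_mul, gL_mul, gL_tv hu, gL_tv (by simp [dualAct_apply, hu]), gL_inv_apply,
    dualAct_apply]
  simp

theorem dualAct_tv {φ ψ : Dual F V} {u : V} (hu : φ u = 0) (x : V) :
    dualAct (tv φ u) ψ x = ψ x - φ x * ψ u := by
  rw [dualAct_apply, ← gL_inv_apply, ← tv_neg hu, gL_tv (by simp [hu])]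
  simp [sub_eq_add_neg]

theorem dualAct_tv_self {φ : Dual F V} {u : V} (hu : φ u = 0) : dualAct (tv φ u) φ = φ := by
  ext x; simp [dualAct_tv hu, hu]

/-- The stabiliser of a functional. -/
def fixer (φ : Dual F V) : Subgroup G where
  carrier := {g | dualAct g φ = φ}
  one_mem' := by simp
  mul_mem' {a b} ha hb := by simp only [Set.mem_setOf_eq] at ha hb ⊢; rw [dualAct_mul, hb, ha]
  inv_mem' {a} ha := by
    simp only [Set.mem_setOf_eq] at ha ⊢
    conv_lhs => rw [← ha]
    rw [← dualAct_mul, inv_mul_cancel, map_one]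
    rfl

omit [Finite F] in
theorem fixer_apply {φ : Dual F V} {g : G} (hg : g ∈ fixer φ) (x : V) : φ (gL g x) = φ x := by
  conv_lhs => rw [← (hg : dualAct g φ = φ)]
  simp [dualAct_apply]

/-- The maps induced on `ker φ` by the stabiliser of `φ`. -/
noncomputable def kerAct (φ : Dual F V) :
    Subgroup (LinearMap.ker φ ≃ₗ[F] LinearMap.ker φ) where
  carrier := {r | ∃ g ∈ fixer φ, ∀ w : LinearMap.ker φ, (r w : V) = gL g (w : V)}
  one_mem' := ⟨1, one_mem _, fun w => by simp⟩
  mul_mem' := by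
    rintro r r' ⟨g, hg, e⟩ ⟨g', hg', e'⟩
    exact ⟨g * g', mul_mem hg hg', fun w => by rw [LinearEquiv.mul_apply, e, e', gL_mul]⟩
  inv_mem' := by
    rintro r ⟨g, hg, e⟩
    refine ⟨g⁻¹, inv_mem hg, fun w => ?_⟩
    have : gL g (r⁻¹ w : V) = w := by
      rw [← e, ← LinearEquiv.mul_apply, mul_inv_cancel]; rfl
    rw [gL_inv_apply]
    exact ((gL g).symm_apply_eq.2 this.symm).symm

theorem hasUnip_kerAct {φ : Dual F V} (hφ : φ ≠ 0) : HasUnip (kerAct φ) := by
  intro f hf
  obtain ⟨v, hv⟩ : ∃ v, φ v ≠ 0 := by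
    by_contra hc; push Not at hc; exact hφ (LinearMap.ext hc)
  let π : V →ₗ[F] LinearMap.ker φ :=
    LinearMap.codRestrict _ (LinearMap.id - ((φ v)⁻¹ • φ).smulRight v)
      (fun x => by simp; field_simp; ring)
  have hπ : ∀ w : LinearMap.ker φ, π w = w := fun w => Subtype.ext (by
    have : φ (w : V) = 0 := w.2
    simp [π, this])
  let f' : V →ₗ[F] V := (LinearMap.ker φ).subtype ∘ₗ f ∘ₗ π
  have hφf : ∀ x, φ (f' x) = 0 := fun x => (f (π x)).2
  have hf' : f' ∘ₗ f' = 0 := by
    refine LinearMap.ext fun x => ?_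
    have := LinearMap.congr_fun hf (π x)
    simp only [LinearMap.comp_apply, LinearMap.zero_apply] at this
    simp [f', hπ, this]
  have hfix : unipG f' hf' ∈ fixer φ := by
    show dualAct _ φ = φ
    refine LinearMap.ext fun x => ?_
    obtain ⟨y, rfl⟩ := (gL (unipG f' hf')).surjective x
    rw [dualAct_apply, LinearEquiv.symm_apply_apply, gL_unipG, map_add, hφf, add_zero]
  have hinv : ∀ w, (1 + f) ((1 - f) w) = w ∧ (1 - f) ((1 + f) w) = w := fun w => by
    have := LinearMap.congr_fun hf w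
    simp only [LinearMap.comp_apply, LinearMap.zero_apply] at this
    constructor <;> simp [this]
  refine ⟨LinearEquiv.ofLinearMap (1 + f) (1 - f) (LinearMap.ext fun w => (hinv w).1)
    (LinearMap.ext fun w => (hinv w).2), ⟨_, hfix, fun w => ?_⟩, fun w => rfl⟩
  simp [gL_unipG, f', hπ]

/-- The vectors `w` of `ker φ` with `tv φ w ∈ H`. -/
noncomputable def centres (H : Subgroup G) (φ : Dual F V) : AddSubgroup (LinearMap.ker φ) where
  carrier := {w | tv φ (w : V) ∈ H}
  zero_mem' := by simp [tv_zero]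
  add_mem' := fun {a b} ha hb => by
    simp only [Set.mem_setOf_eq, Submodule.coe_add, tv_add a.2 b.2] at *
    exact mul_mem ha hb
  neg_mem' := fun {a} ha => by
    simp only [Set.mem_setOf_eq, Submodule.coe_neg, tv_neg a.2] at *
    exact inv_mem ha

/-- Counting cosets: the centres at `φ` and their images give many cosets, and if they give all
cosets then every coset is reached from the stabiliser of `φ`. -/
theorem index_ge_orbit (H : Subgroup G) (φ : Dual F V) :
    Nat.card (imgs (kerAct φ) (centres H φ : Set (LinearMap.ker φ))) * (centres H φ).index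
        ≤ H.index ∧
      (Nat.card (imgs (kerAct φ) (centres H φ : Set (LinearMap.ker φ))) * (centres H φ).index
          = H.index → ∀ g : G, ∃ k ∈ fixer φ, k⁻¹ * g ∈ H) := by
  classical
  set A := centres H φ with hA
  have hO : ∀ O : imgs (kerAct φ) (A : Set (LinearMap.ker φ)), ∃ g ∈ fixer φ, ∀ w,
      w ∈ (O : Set (LinearMap.ker φ)) ↔ ∃ a ∈ A, (w : V) = gL g (a : V) := by
    rintro ⟨O, ⟨⟨r, g, hg, e⟩, rfl⟩⟩
    refine ⟨g, hg, fun w => ?_⟩
    constructor
    · rintro ⟨a, ha, rfl⟩; exact ⟨a, ha, e a⟩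
    · rintro ⟨a, ha, h⟩; exact ⟨a, ha, Subtype.ext ((e a).trans h.symm)⟩
  choose g hg hgO using hO
  let f : imgs (kerAct φ) (A : Set (LinearMap.ker φ)) × (LinearMap.ker φ ⧸ A) → G ⧸ H :=
    fun p => ((g p.1 * tv φ ((Quotient.out p.2 : LinearMap.ker φ) : V) : G) : G ⧸ H)
  have hinj : Function.Injective f := by
    rintro ⟨O, c⟩ ⟨O', c'⟩ h
    simp only [f, QuotientGroup.eq] at h
    set w : LinearMap.ker φ := Quotient.out c with hw
    set w' : LinearMap.ker φ := Quotient.out c' with hw'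
    set k := (g O * tv φ (w : V))⁻¹ * (g O' * tv φ (w' : V)) with hk
    have hfix : ∀ v : LinearMap.ker φ, tv φ (v : V) ∈ fixer φ := fun v => dualAct_tv_self v.2
    have hkF : k ∈ fixer φ :=
      mul_mem (inv_mem (mul_mem (hg O) (hfix w))) (mul_mem (hg O') (hfix w'))
    clear_value k
    have hOO : O = O' := by
      have hact : ∀ a : LinearMap.ker φ,
          gL (g O) (gL k (a : V)) = gL (g O') (a : V) := by
        intro a
        have h1 : ∀ (v : LinearMap.ker φ) (y : V), φ y = 0 → gL (tv φ (v : V)) y = y :=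
          fun v y hy => by simp [gL_tv v.2, hy]
        have e1 : gL (g O * tv φ (w : V)) (gL k (a : V)) = gL (g O' * tv φ (w' : V)) (a : V) := by
          rw [← gL_mul, hk, mul_inv_cancel_left]
        rw [gL_mul, gL_mul, h1 w _ (by rw [fixer_apply hkF]; exact a.2), h1 w' _ a.2] at e1
        exact e1
      have hkA : ∀ k' ∈ H, k' ∈ fixer φ → ∀ a ∈ A, ∃ b ∈ A, gL k' (a : V) = (b : V) := by
        intro k' hk' hk'F a ha
        refine ⟨⟨gL k' (a : V), ?_⟩, ?_, rfl⟩
        · rw [LinearMap.mem_ker, fixer_apply hk'F]; exact a.2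
        · show tv φ (gL k' (a : V)) ∈ H
          conv => enter [2, 1]; rw [← (hk'F : dualAct k' φ = φ)]
          rw [← tv_conj k' a.2]
          exact mul_mem (mul_mem hk' ha) (inv_mem hk')
      refine Subtype.ext (Set.ext fun v => ?_)
      rw [hgO, hgO]
      constructor
      · rintro ⟨a, ha, e⟩
        obtain ⟨b, hb, eb⟩ := hkA _ (inv_mem h) (inv_mem hkF) a ha
        refine ⟨b, hb, ?_⟩
        rw [← hact b, ← eb, ← gL_mul k k⁻¹, mul_inv_cancel, map_one, e]
        rfl
      · rintro ⟨a, ha, e⟩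
        obtain ⟨b, hb, eb⟩ := hkA _ h hkF a ha
        refine ⟨b, hb, ?_⟩
        rw [e, ← hact a, eb]
    subst hOO
    have h2 : k = tv φ ((-w + w' : LinearMap.ker φ) : V) := by
      rw [hk, Submodule.coe_add, Submodule.coe_neg,
        tv_add (by simp [show φ (w : V) = 0 from w.2]) w'.2, tv_neg w.2]
      group
    refine Prod.ext rfl ?_
    rw [← Quotient.out_eq c, ← Quotient.out_eq c']
    refine Quotient.sound ?_
    have : tv φ ((-w + w' : LinearMap.ker φ) : V) ∈ H := h2 ▸ h
    exact QuotientAddGroup.leftRel_apply.2 this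
  refine ⟨?_, fun heq x => ?_⟩
  · have := Nat.card_le_card_of_injective f hinj
    rwa [Nat.card_prod] at this
  · obtain ⟨⟨O, c⟩, hoc⟩ := ((Nat.bijective_iff_injective_and_card f).2 ⟨hinj, by
      rw [Nat.card_prod]; exact heq⟩).2 (x : G ⧸ H)
    refine ⟨g O * tv φ ((Quotient.out c : LinearMap.ker φ) : V),
      mul_mem (hg O) (dualAct_tv_self (Quotient.out c : LinearMap.ker φ).2), ?_⟩
    exact QuotientGroup.eq.1 hoc

omit [Finite F] in
theorem exists_dual_eq_zero_pair (hn : 3 ≤ n) (x y : V) :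
    ∃ φ : Dual F V, φ ≠ 0 ∧ φ x = 0 ∧ φ y = 0 := by
  classical
  have hlt : Submodule.span F ({x, y} : Set V) < ⊤ := by
    rw [lt_top_iff_ne_top]
    intro h
    have h1 := finrank_span_finset_le_card (R := F) ({x, y} : Finset V)
    have h2 : ({x, y} : Finset V).card ≤ 2 := Finset.card_le_two
    rw [Finset.coe_insert, Finset.coe_singleton] at h1
    unfold Set.finrank at h1
    rw [h, finrank_top, Module.finrank_fin_fun] at h1
    omega
  obtain ⟨φ, hφ, hle⟩ := Submodule.exists_le_ker_of_lt_top _ hlt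
  exact ⟨φ, hφ, hle (Submodule.subset_span (by simp)), hle (Submodule.subset_span (by simp))⟩

omit [Finite F] in
theorem finrank_ker_add_one {φ : Dual F V} (hφ : φ ≠ 0) :
    finrank F (LinearMap.ker φ) + 1 = n := by
  rw [Module.Dual.finrank_ker_add_one_of_ne_zero hφ, Module.finrank_fin_fun]

omit [Finite F] in
theorem mem_span_of_ker_le {φ ψ : Dual F V} (hφ : φ ≠ 0)
    (h : LinearMap.ker φ ≤ LinearMap.ker ψ) : ∃ a : F, ψ = a • φ := by
  obtain ⟨v, hv⟩ : ∃ v, φ v ≠ 0 := by
    by_contra hc; push Not at hc; exact hφ (LinearMap.ext hc)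
  refine ⟨ψ v / φ v, LinearMap.ext fun x => ?_⟩
  have : x - (φ x / φ v) • v ∈ LinearMap.ker φ := by simp [div_mul_cancel₀ _ hv]
  have := h this
  simp only [LinearMap.mem_ker, map_sub, map_smul, smul_eq_mul, sub_eq_zero] at this
  rw [this, LinearMap.smul_apply, smul_eq_mul]
  field_simp

/-- The transvection centres of `H` cannot form hyperplanes of all the hyperplanes. -/
theorem no_hyperplane_case (hn : 3 ≤ n) (H : Subgroup G)
    (hU : ∀ φ : Dual F V, φ ≠ 0 → ∃ U : Submodule F V,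
      (∀ x, x ∈ U ↔ φ x = 0 ∧ tv φ x ∈ H) ∧ finrank F U + 2 = n) : False := by
  choose U hUmem hUrk using hU
  have key : ∀ (φ : Dual F V) (hφ : φ ≠ 0) (ψ : Dual F V) (hψ : ψ ≠ 0) (x : V),
      x ∈ U ψ hψ → φ x = 0 → x ∈ U φ hφ := by
      intro φ hφ ψ hψ x hx hφx
      by_contra hxn
      obtain ⟨hψx, hxH⟩ := (hUmem _ _ _).1 hx
      have hle : U φ hφ ≤ LinearMap.ker ψ := by
        intro u hu
        show ψ u = 0
        by_contra h0
        obtain ⟨hφu, huH⟩ := (hUmem _ _ _).1 hu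
        have h1 := mul_mem (mul_mem hxH huH) (inv_mem hxH)
        rw [tv_conj _ hφu, gL_tv hψx,
          show dualAct (tv ψ x) φ = φ from LinearMap.ext fun y => by simp [dualAct_tv hψx, hφx]] at h1
        have h2 : u + ψ u • x ∈ U φ hφ := (hUmem _ _ _).2 ⟨by simp [hφu, hφx], h1⟩
        have h3 := Submodule.smul_mem _ (ψ u)⁻¹ (Submodule.sub_mem _ h2 hu)
        rw [add_sub_cancel_left, inv_smul_smul₀ h0] at h3
        exact hxn h3
      have hlt : U φ hφ < U φ hφ ⊔ Submodule.span F {x} := by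
        refine lt_of_le_of_ne le_sup_left fun h => hxn ?_
        rw [h]
        exact Submodule.mem_sup_right (Submodule.mem_span_singleton_self x)
      have hsup : U φ hφ ⊔ Submodule.span F {x} = LinearMap.ker φ := by
        refine Submodule.eq_of_le_of_finrank_le (sup_le (fun u hu => ((hUmem _ _ _).1 hu).1)
          ((Submodule.span_singleton_le_iff_mem _ _).2 hφx)) ?_
        have := Submodule.finrank_lt_finrank_of_lt hlt
        have := hUrk φ hφ
        have := finrank_ker_add_one hφ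
        omega
      have hker : LinearMap.ker φ ≤ LinearMap.ker ψ :=
        hsup ▸ sup_le hle ((Submodule.span_singleton_le_iff_mem _ _).2 hψx)
      obtain ⟨a, rfl⟩ := mem_span_of_ker_le hφ hker
      have ha : a ≠ 0 := fun h => hψ (by simp [h])
      rw [tv_smul hφx] at hxH
      have := Submodule.smul_mem _ a⁻¹ ((hUmem φ hφ (a • x)).2 ⟨by simp [hφx], hxH⟩)
      rw [inv_smul_smul₀ ha] at this
      exact hxn this
  let C : Submodule F V :=
    { carrier := {x | ∃ ψ hψ, x ∈ U ψ hψ}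
      zero_mem' := by
        obtain ⟨φ, hφ, -⟩ := exists_dual_eq_zero_pair (F := F) hn (0 : V) 0
        exact ⟨φ, hφ, zero_mem _⟩
      add_mem' := by
        rintro x y ⟨ψ, hψ, hx⟩ ⟨χ, hχ, hy⟩
        obtain ⟨φ, hφ, hφx, hφy⟩ := exists_dual_eq_zero_pair hn x y
        exact ⟨φ, hφ, add_mem (key φ hφ ψ hψ x hx hφx) (key φ hφ χ hχ y hy hφy)⟩
      smul_mem' := by
        rintro a x ⟨ψ, hψ, hx⟩
        exact ⟨ψ, hψ, Submodule.smul_mem _ a hx⟩ }
  have hCU : ∀ φ (hφ : φ ≠ 0), C ⊓ LinearMap.ker φ = U φ hφ := by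
    intro φ hφ
    refine le_antisymm ?_ fun x hx => ⟨⟨φ, hφ, hx⟩, ((hUmem φ hφ x).1 hx).1⟩
    rintro x ⟨⟨ψ, hψ, hx⟩, hφx⟩
    exact key φ hφ ψ hψ x hx hφx
  have hC : C < ⊤ := by
    rw [lt_top_iff_ne_top]
    intro h
    obtain ⟨φ, hφ, -⟩ := exists_dual_eq_zero_pair (F := F) hn (0 : V) 0
    have := hCU φ hφ
    rw [h, top_inf_eq] at this
    have h1 := finrank_ker_add_one hφ
    have h2 := hUrk φ hφ
    rw [← this] at h2
    omega
  obtain ⟨φ, hφ, hle⟩ := Submodule.exists_le_ker_of_lt_top _ hC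
  have hCrk : finrank F C + 2 = n := by
    have := hCU φ hφ
    rw [inf_eq_left.2 hle] at this
    rw [this]; exact hUrk φ hφ
  obtain ⟨x, hx, hx0⟩ : ∃ x ∈ C, x ≠ 0 := by
    refine Submodule.exists_mem_ne_zero_of_ne_bot fun h => ?_
    rw [h, finrank_bot] at hCrk
    omega
  obtain ⟨ψ, hψx⟩ : ∃ ψ : Dual F V, ψ x ≠ 0 := by
    by_contra hc
    push Not at hc
    exact hx0 ((Module.forall_dual_apply_eq_zero_iff F x).1 hc)
  have hψ : ψ ≠ 0 := fun h => hψx (by simp [h])
  have hlt : C ⊓ LinearMap.ker ψ < C := by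
    rw [inf_lt_left]
    exact fun h => hψx (h hx)
  have := Submodule.finrank_lt_finrank_of_lt hlt
  rw [hCU ψ hψ] at this
  have := hUrk ψ hψ
  omega
end Cfsg.Agent.KnownSimple
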